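/-
Binary affine groups (towards S5753), elementary part valid in every characteristic.

`H` acts faithfully by automorphisms on a finite abelian group `V`; the point colours of the affine
group `V ⋊ H` are the `H`-orbits of differences, and binarity says that every colour preserving map
of a set of vectors fixing `0` is induced by an element of `H`.
-/
import Mathlib

set_option autoImplicit false
set_option linter.unusedSectionVars false

namespace Cfsg.Agent.BinAff

variable {H V : Type*} [Group H] [AddCommGroup V] [DistribMulAction H V]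

/-- Binarity of the affine group, in the form of an extension property. -/
def Ext (H V : Type*) [Group H] [AddCommGroup V] [DistribMulAction H V] : Prop :=
  ∀ (S : Set V) (σ : V → V), (∀ a ∈ S, ∃ h : H, h • a = σ a) →
    (∀ a ∈ S, ∀ b ∈ S, ∃ h : H, h • (a - b) = σ a - σ b) → ∃ h : H, ∀ a ∈ S, h • a = σ a

/-- Irreducibility: no proper non-trivial invariant subgroup. -/
def Irr (H V : Type*) [Group H] [AddCommGroup V] [DistribMulAction H V] : Prop :=
  ∀ A : AddSubgroup V, (∀ h : H, ∀ v ∈ A, h • v ∈ A) → A = ⊥ ∨ A = ⊤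

/-- The additive map `v ↦ h • v - v`. -/
def dlt (h : H) : V →+ V where
  toFun v := h • v - v
  map_zero' := by simp
  map_add' a b := by rw [smul_add]; abel

@[simp] theorem dlt_apply (h : H) (v : V) : dlt h v = h • v - v := rfl

/-- The fixed points of `h`. -/
def fixV (h : H) : AddSubgroup V := (dlt h).ker

/-- The commutator space of `h`. -/
def movV (h : H) : AddSubgroup V := (dlt h).range

theorem mem_fixV {h : H} {v : V} : v ∈ fixV h ↔ h • v = v := by
  simp [fixV, AddMonoidHom.mem_ker, sub_eq_zero]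

theorem mem_movV {h : H} {c : V} : c ∈ movV h ↔ ∃ v, h • v = v + c := by
  constructor
  · rintro ⟨v, hv⟩
    exact ⟨v, by rw [← hv, dlt_apply]; abel⟩
  · rintro ⟨v, hv⟩
    exact ⟨v, by rw [dlt_apply, hv]; abel⟩

theorem card_fix_mul_mov [Finite V] (h : H) :
    Nat.card (fixV (V := V) h) * Nat.card (movV (V := V) h) = Nat.card V := by
  unfold fixV movV
  rw [← AddSubgroup.index_ker]
  exact AddSubgroup.card_mul_index _

theorem fixV_conj (g h : H) (v : V) : g • v ∈ fixV (g * h * g⁻¹) ↔ v ∈ fixV h := by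
  simp [mem_fixV, mul_smul]

theorem card_fixV_conj (g h : H) :
    Nat.card (fixV (V := V) (g * h * g⁻¹)) = Nat.card (fixV (V := V) h) :=
  Nat.card_congr
    { toFun := fun v => ⟨g⁻¹ • v.1, by
        have := v.2
        rw [← smul_inv_smul g v.1] at this
        exact (fixV_conj g h _).1 this⟩
      invFun := fun v => ⟨g • v.1, (fixV_conj g h _).2 v.2⟩
      left_inv := fun v => by simp
      right_inv := fun v => by simp }

theorem movV_conj {g h : H} {c : V} (hc : c ∈ movV h) : g • c ∈ movV (g * h * g⁻¹) := by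
  obtain ⟨v, hv⟩ := mem_movV.1 hc
  exact mem_movV.2 ⟨g • v, by simp [mul_smul, hv]⟩

/-- Move one point, fixing a set pointwise. -/
theorem Ext.move (hext : Ext H V) (S : Set V) (u v : V) (h0 : ∃ h : H, h • u = v)
    (hS : ∀ s ∈ S, ∃ h : H, h • (u - s) = v - s) :
    ∃ h : H, (∀ s ∈ S, h • s = s) ∧ h • u = v := by
  classical
  have huv : u ∈ S → v = u := by
    intro hu
    obtain ⟨h, hh⟩ := hS u hu
    rw [sub_self, smul_zero] at hh
    exact (sub_eq_zero.1 hh.symm)
  refine (hext (insert u S) (fun x => if x = u then v else x) ?_ ?_).elim fun h hh => ?_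
  rotate_left 2
  · refine ⟨h, fun s hs => ?_, by simpa using hh u (Set.mem_insert _ _)⟩
    refine (hh s (Set.mem_insert_of_mem _ hs)).trans ?_
    by_cases hsu : s = u
    · subst hsu; simp only [if_true]; exact huv hs
    · simp only [if_neg hsu]
  · intro a ha
    by_cases hau : a = u
    · simpa [hau] using h0
    · exact ⟨1, by simp [hau]⟩
  · intro a ha b hb
    rcases eq_or_ne a u with rfl | hau
    · rcases eq_or_ne b a with rfl | hbu
      · exact ⟨1, by simp⟩
      · have hb' : b ∈ S := (Set.mem_insert_iff.1 hb).resolve_left hbu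
        simpa [hbu] using hS b hb'
    · have ha' : a ∈ S := (Set.mem_insert_iff.1 ha).resolve_left hau
      rcases eq_or_ne b u with rfl | hbu
      · obtain ⟨h, hh⟩ := hS a ha'
        refine ⟨h, ?_⟩
        simp only [if_neg hau, if_true]
        rw [← neg_sub b a, ← neg_sub v a, smul_neg, hh]
      · exact ⟨1, by simp [hau, hbu]⟩

/-- Two points of one orbit of a pointwise stabiliser are swapped inside it. -/
theorem Ext.swap (hext : Ext H V) (S : Set V) {h0 : H} (hfix : ∀ s ∈ S, h0 • s = s) {b b' : V}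
    (hb : h0 • b = b') : ∃ x : H, (∀ s ∈ S, x • s = s) ∧ x • b = b' ∧ x • b' = b := by
  obtain ⟨x, hxS, hxb⟩ := hext.move (insert (b + b') S) b b' ⟨h0, hb⟩ (by
    intro s hs
    rcases Set.mem_insert_iff.1 hs with rfl | hs
    · refine ⟨h0⁻¹, ?_⟩
      have e1 : b - (b + b') = -b' := by abel
      have e2 : b' - (b + b') = -b := by abel
      rw [e1, e2, smul_neg, ← hb, inv_smul_smul]
    · exact ⟨h0, by rw [smul_sub, hb, hfix s hs]⟩)
  refine ⟨x, fun s hs => hxS s (Set.mem_insert_of_mem _ hs), hxb, ?_⟩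
  have h2 : x • (b + b') = b + b' := hxS _ (Set.mem_insert _ _)
  rw [smul_add, hxb] at h2
  rw [add_comm b b'] at h2
  exact add_left_cancel h2

/-- One element moves by `c` every vector whose colour is unchanged by adding `c`. -/
theorem Ext.transl (hext : Ext H V) (c : V) :
    ∃ h : H, ∀ u : V, (∃ g : H, g • u = u + c) → h • u = u + c := by
  by_cases hne : ∃ u0 : V, ∃ g : H, g • u0 = u0 + c
  · obtain ⟨u0, g0, hg0⟩ := hne
    obtain ⟨h, hS, h0⟩ := hext.move {s | ∃ g : H, g • (u0 - s) = (u0 - s) + c} u0 (u0 + c)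
      ⟨g0, hg0⟩ (by
        rintro s ⟨g, hg⟩
        exact ⟨g, by rw [hg]; abel⟩)
    refine ⟨h, fun u hu => ?_⟩
    have hs : h • (u0 - u) = u0 - u := hS _ (by simpa using hu)
    have e : u = u0 - (u0 - u) := by abel
    calc h • u = h • (u0 - (u0 - u)) := by rw [← e]
      _ = (u0 + c) - (u0 - u) := by rw [smul_sub, h0, hs]
      _ = u + c := by abel
  · exact ⟨1, fun u hu => absurd ⟨u, hu⟩ hne⟩

/-- A coset `b + [V,y]` of a fixed vector `b` of `y` meets the orbit of `b` only in `b`. -/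
theorem Ext.eq_zero_of_orbit (hext : Ext H V) {y g : H} {b c : V} (hyb : y • b = b)
    (hc : c ∈ movV y) (hg : g • b = b + c) : c = 0 := by
  obtain ⟨u, hu⟩ := mem_movV.1 hc
  obtain ⟨h, hh⟩ := hext.transl c
  have h1 := hh u ⟨y, hu⟩
  have h2 := hh b ⟨g, hg⟩
  have h3 := hh (u + b) ⟨y, by rw [smul_add, hu, hyb]; abel⟩
  rw [smul_add, h1, h2] at h3
  have h4 : (u + b + c) + c = (u + b + c) + 0 := by
    rw [add_zero]
    calc u + b + c + c = u + c + (b + c) := by abel
      _ = u + b + c := h3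
  exact add_left_cancel h4

/-- `V` is an elementary abelian group. -/
def Elem (V : Type*) [AddCommGroup V] : Prop := ∃ p : ℕ, p.Prime ∧ ∀ v : V, p • v = 0

theorem Elem.add_self (hV : Elem V) {c : V} (hc0 : c ≠ 0) (hc : c + c = 0) (b : V) :
    b + b = 0 := by
  obtain ⟨p, hp, hpv⟩ := hV
  have h2 : addOrderOf c ∣ 2 := addOrderOf_dvd_of_nsmul_eq_zero (by rwa [two_nsmul])
  have hp' : addOrderOf c ∣ p := addOrderOf_dvd_of_nsmul_eq_zero (hpv c)
  have hne : addOrderOf c ≠ 1 := by rwa [Ne, AddMonoid.addOrderOf_eq_one_iff]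
  rcases (Nat.dvd_prime hp).1 hp' with h | h
  · exact absurd h hne
  rcases (Nat.dvd_prime Nat.prime_two).1 h2 with h' | h'
  · exact absurd h' hne
  have := hpv b
  rwa [← h, h', two_nsmul] at this

/-- An element with maximal fixed-point space. -/
def IsTop (V : Type*) [AddCommGroup V] [DistribMulAction H V] (q : H) : Prop :=
  q ≠ 1 ∧ ∀ h : H, h ≠ 1 → Nat.card (fixV (V := V) h) ≤ Nat.card (fixV (V := V) q)

theorem IsTop.conj {q : H} (hq : IsTop V q) (g : H) : IsTop V (g * q * g⁻¹) := by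
  refine ⟨fun h => hq.1 ?_, fun h hh => ?_⟩
  · have := congrArg (fun x => g⁻¹ * x * g) h
    simpa [mul_assoc] using this
  · rw [card_fixV_conj]; exact hq.2 h hh

theorem exists_isTop [Finite H] [Nontrivial H] : ∃ q : H, IsTop V q := by
  obtain ⟨a, ha⟩ := exists_ne (1 : H)
  obtain ⟨q, hq, hmax⟩ := Set.exists_max_image {h : H | h ≠ 1}
    (fun h => Nat.card (fixV (V := V) h)) (Set.toFinite _) ⟨a, ha⟩
  exact ⟨q, hq, hmax⟩

section
variable [FaithfulSMul H V]

theorem eq_one_of_forall {h : H} (hh : ∀ v : V, h • v = v) : h = 1 :=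
  eq_of_smul_eq_smul fun v : V => by rw [hh v, one_smul]

/-- A non-identity element of maximal fixed space inside a pointwise stabiliser is an
involution. -/
theorem mul_self_eq_one_of_max (hext : Ext H V) (S : Set V) {q : H}
    (hqS : ∀ s ∈ S, q • s = s)
    (hmax : ∀ h : H, (∀ s ∈ S, h • s = s) → (∀ v ∈ fixV (V := V) q, h • v = v) →
      h = 1 ∨ ∀ v : V, h • v = v → q • v = v) :
    q * q = 1 := by
  refine eq_one_of_forall (V := V) fun v => ?_
  rw [mul_smul]
  by_cases hv : q • v = v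
  · rw [hv, hv]
  obtain ⟨x, hxS, hxv, hxqv⟩ := hext.swap (S ∪ (fixV (V := V) q : Set V)) (h0 := q) (b := v)
    (b' := q • v)
    (by
      rintro s (hs | hs)
      · exact hqS s hs
      · exact mem_fixV.1 hs) rfl
  rcases hmax (x⁻¹ * q)
      (fun s hs => by rw [mul_smul, hqS s hs, inv_smul_eq_iff, hxS s (Or.inl hs)])
      (fun w hw => by
        rw [mul_smul, mem_fixV.1 hw, inv_smul_eq_iff, hxS w (Or.inr hw)]) with h1 | h1
  · rw [← inv_mul_eq_one.1 h1]
    rw [hxv, hxqv]
  · exact absurd (h1 v (by rw [mul_smul, inv_smul_eq_iff, hxv])) hv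

variable [Finite V]

theorem fix_eq_of_le {q h : H} (hq : IsTop V q) (hh : h ≠ 1) (hle : fixV (V := V) q ≤ fixV h) :
    fixV (V := V) h = fixV q :=
  (AddSubgroup.eq_of_le_of_card_ge hle (hq.2 h hh)).symm

theorem IsTop.mul_self (hext : Ext H V) {q : H} (hq : IsTop V q) : q * q = 1 := by
  refine mul_self_eq_one_of_max hext ∅ (by simp) fun h _ hF => ?_
  by_cases hh : h = 1
  · exact Or.inl hh
  refine Or.inr fun v hv => ?_
  have := fix_eq_of_le hq hh fun w hw => mem_fixV.2 (hF w hw)
  exact mem_fixV.1 (this ▸ mem_fixV.2 hv)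

theorem smul_movV {q : H} (hq2 : q * q = 1) {c : V} (hc : c ∈ movV q) : q • c = -c := by
  obtain ⟨v, hv⟩ := mem_movV.1 hc
  have hc' : c = q • v - v := by rw [hv]; abel
  rw [hc', smul_sub, ← mul_smul, hq2, one_smul]
  abel

/-- A non-zero commutator vector determines the element of maximal fixed space. -/
theorem IsTop.eq_of_mov (hext : Ext H V) {q r : H} (hq : IsTop V q) (hr : IsTop V r) {c : V}
    (hc0 : c ≠ 0) (hcq : c ∈ movV q) (hcr : c ∈ movV r) : q = r := by
  obtain ⟨h, hh⟩ := hext.transl c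
  have key : ∀ {t : H}, IsTop V t → c ∈ movV t → h = t := by
    intro t ht hct
    obtain ⟨u, hu⟩ := mem_movV.1 hct
    have h0 := hh u ⟨t, hu⟩
    have hF : ∀ f ∈ fixV (V := V) t, h • f = f := by
      intro f hf
      have h1 := hh (u + f) ⟨t, by rw [smul_add, hu, mem_fixV.1 hf]; abel⟩
      rw [smul_add, h0] at h1
      have h1' : u + c + h • f = u + c + f := by rw [h1]; abel
      exact add_left_cancel h1'
    by_contra hne
    have h1 : h⁻¹ * t ≠ 1 := fun e => hne (inv_mul_eq_one.1 e)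
    have h2 := fix_eq_of_le ht h1 fun f hf => mem_fixV.2 (by
      rw [mul_smul, mem_fixV.1 hf, inv_smul_eq_iff, hF f hf])
    have h3 : u ∈ fixV t := h2 ▸ mem_fixV.2 (by rw [mul_smul, hu, inv_smul_eq_iff, h0])
    rw [mem_fixV, hu] at h3
    exact hc0 (by simpa using h3)
  rw [← key hq hcq, ← key hr hcr]

theorem IsTop.commute_of_fix (hext : Ext H V) {q : H} (hq : IsTop V q) {x : H} {c : V}
    (hc0 : c ≠ 0) (hc : c ∈ movV q) (hx : x • c = c) : Commute x q := by
  have h1 : x * q * x⁻¹ = q := by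
    refine (hq.conj x).eq_of_mov hext hq hc0 ?_ hc
    simpa [hx] using movV_conj (g := x) hc
  exact mul_inv_eq_iff_eq_mul.1 h1

theorem smul_mem_movV_of_commute {x q : H} (hx : Commute x q) {c : V} (hc : c ∈ movV q) :
    x • c ∈ movV q := by
  simpa [hx.eq] using movV_conj (g := x) hc

theorem smul_mem_fixV_of_commute {x q : H} (hx : Commute x q) {c : V} (hc : c ∈ fixV q) :
    x • c ∈ fixV q := by
  simpa [hx.eq] using (fixV_conj x q c).2 hc

/-- An element commuting with `q` that fixes one non-zero vector of `[V,q]` fixes all of it. -/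
theorem IsTop.fix_mov_of_fix (hext : Ext H V) (hV : Elem V) {q : H} (hq : IsTop V q) {x : H} {c d : V}
    (hc0 : c ≠ 0) (hc : c ∈ movV q) (hx : x • c = c) (hd : d ∈ movV q) : x • d = d := by
  have hcomm := hq.commute_of_fix hext hc0 hc hx
  have hq2 := hq.mul_self hext
  have hxd := smul_mem_movV_of_commute hcomm hd
  by_contra hne
  have hw : x • d - d ∈ movV q := sub_mem hxd hd
  have hw0 : x • d - d ≠ 0 := fun e => hne (sub_eq_zero.1 e)
  by_cases hdq : q • d = d
  · exact hw0 (hext.eq_zero_of_orbit hdq hw (g := x) (by abel))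
  · obtain ⟨h, hh⟩ := hext.transl (x • d - d)
    obtain ⟨u, hu⟩ := mem_movV.1 hw
    have h0 := hh u ⟨q, hu⟩
    have hd0 := hh d ⟨x, by abel⟩
    have hF : fixV (V := V) q ≤ fixV h := fun f hf => by
      have h1 := hh (u + f) ⟨q, by rw [smul_add, hu, mem_fixV.1 hf]; abel⟩
      rw [smul_add, h0] at h1
      have h1' : u + (x • d - d) + h • f = u + (x • d - d) + f := by rw [h1]; abel
      exact mem_fixV.2 (add_left_cancel h1')
    have hne1 : h ≠ 1 := by
      rintro rfl
      rw [one_smul] at h0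
      exact hw0 (by simpa using h0)
    have hcF : c ∈ fixV h := by
      have h1 := hh (d + c) ⟨x, by rw [smul_add, hx]; abel⟩
      rw [smul_add, hd0] at h1
      have h1' : d + (x • d - d) + h • c = d + (x • d - d) + c := by rw [h1]; abel
      exact mem_fixV.2 (add_left_cancel h1')
    rw [fix_eq_of_le hq hne1 hF, mem_fixV, smul_movV hq2 hc] at hcF
    have h2 : c + c = 0 := by
      nth_rewrite 1 [← hcF]
      exact neg_add_cancel c
    refine hdq ?_
    rw [smul_movV hq2 hd]
    exact neg_eq_of_add_eq_zero_left (hV.add_self hc0 h2 d)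

end

end Cfsg.Agent.BinAff

namespace Cfsg.Agent.BinAff

variable {H V : Type*} [Group H] [AddCommGroup V] [DistribMulAction H V]

/-- The conclusion of both characteristic cases: `H` is a circle extended by its inversion. -/
def Circle (H V : Type*) [Group H] [AddCommGroup V] [DistribMulAction H V] : Prop :=
  ∃ (U : Subgroup H) (q : H) (Q : ℕ), 2 ≤ Q ∧ Nat.card V = Q ^ 2 ∧ Nat.card U = Q + 1 ∧
    q * q = 1 ∧ q ∉ U ∧ (∀ u ∈ U, q * u * q = u⁻¹) ∧ (∀ g : H, g ∈ U ∨ q * g ∈ U) ∧
    (∀ u ∈ U, u ≠ 1 → ∀ v : V, u • v = v → v = 0) ∧ (∀ v : V, ∃ u ∈ U, (q * u) • v = v)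

/-- Non-zero vectors of `P` partitioned by subgroups of order `Q`. -/
theorem card_mul_of_partition [Finite V] {ι : Type*} [Finite ι] (P : AddSubgroup V)
    (A : ι → AddSubgroup V) {Q : ℕ} (hQ : ∀ i, Nat.card (A i) = Q) (hle : ∀ i, A i ≤ P)
    (hcov : ∀ v ∈ P, v ≠ 0 → ∃ i, v ∈ A i)
    (hdis : ∀ i j, ∀ v : V, v ≠ 0 → v ∈ A i → v ∈ A j → i = j) :
    Nat.card ι * (Q - 1) = Nat.card P - 1 := by
  classical
  have := Fintype.ofFinite ι
  have hsub : ∀ B : AddSubgroup V, Nat.card {v : V // v ∈ B ∧ v ≠ 0} = Nat.card B - 1 := by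
    intro B
    have h1 : Nat.card {v : V // v ∈ B ∧ v ≠ 0} = ((B : Set V) \ {0}).ncard := by
      rw [← Nat.card_coe_set_eq]
      rfl
    rw [h1, Set.ncard_sdiff (by simp) (Set.finite_singleton 0), Set.ncard_singleton,
      ← Nat.card_coe_set_eq]
    rfl
  have e : (Σ i, {v : V // v ∈ A i ∧ v ≠ 0}) ≃ {v : V // v ∈ P ∧ v ≠ 0} :=
    Equiv.ofBijective (fun x => ⟨x.2.1, hle _ x.2.2.1, x.2.2.2⟩)
      ⟨by
        rintro ⟨i, v, hv⟩ ⟨j, w, hw⟩ h
        simp only [Subtype.mk.injEq] at h
        subst h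
        obtain rfl := hdis i j v hv.2 hv.1 hw.1
        rfl, by
        rintro ⟨v, hv, hv0⟩
        obtain ⟨i, hi⟩ := hcov v hv hv0
        exact ⟨⟨i, v, hi, hv0⟩, rfl⟩⟩
  have h := Nat.card_congr e
  rw [Nat.card_sigma, hsub] at h
  simp only [hsub, hQ, Finset.sum_const, Finset.card_univ, smul_eq_mul] at h
  rw [Nat.card_eq_fintype_card (α := ι)]
  exact h

theorem card_mul_le [Finite V] {A B : AddSubgroup V} (h : ∀ v ∈ A, v ∈ B → v = 0) :
    Nat.card A * Nat.card B ≤ Nat.card V := by
  rw [← Nat.card_prod]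
  refine Nat.card_le_card_of_injective (fun x : A × B => (x.1 : V) + x.2) fun x y hxy => ?_
  have h1 : (x.1 : V) - y.1 = y.2 - x.2 := by
    rw [sub_eq_sub_iff_add_eq_add]
    exact hxy.trans (add_comm _ _)
  have h2 := h _ (sub_mem x.1.2 y.1.2) (h1 ▸ sub_mem y.2.2 x.2.2)
  have h3 : (y.2 : V) - x.2 = 0 := h1 ▸ h2
  exact Prod.ext (Subtype.ext (sub_eq_zero.1 h2)) (Subtype.ext (sub_eq_zero.1 h3).symm)

end Cfsg.Agent.BinAff
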