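/-
A circle with inversion is the norm-one group of a quadratic extension of finite fields together
with the field automorphism.
-/
import Cfsg.Agent.Lib.Fus.BinAff.Basic

set_option autoImplicit false
set_option linter.unusedSectionVars false

namespace Cfsg.Agent.BinAff

variable {H V : Type*} [Group H] [AddCommGroup V] [DistribMulAction H V] [FaithfulSMul H V]
  [Finite V]

/-- A bare copy of `Fin n`, to carry a field structure in `Type`. -/
structure FieldCarrier (n : ℕ) where
  val : Fin n

/-- `V` is one-dimensional over the field generated by the circle. -/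
theorem exists_field (hirr : Irr H V) {U : Subgroup H} {q : H} (hq2 : q * q = 1) (hq1 : q ≠ 1)
    (hinv : ∀ u ∈ U, q * u * q = u⁻¹) (hsplit : ∀ g : H, g ∈ U ∨ q * g ∈ U)
    (hcov : ∀ v : V, ∃ u ∈ U, (q * u) • v = v) {v0 : V} (hv0 : v0 ≠ 0) (hqv0 : q • v0 = v0) :
    ∃ (E : Type) (_ : Field E) (e : V ≃+ E) (μ : U → E) (σ : E ≃+* E),
      (∀ (u : U) (v : V), e ((u : H) • v) = μ u * e v) ∧ (∀ v, e (q • v) = σ (e v)) := by
  classical
  have hcomm : ∀ a ∈ U, ∀ b ∈ U, a * b = b * a := by
    intro a ha b hb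
    have h := hinv (a * b) (mul_mem ha hb)
    have h' : q * (a * b) * q = (q * a * q) * (q * b * q) := by
      calc q * (a * b) * q = q * a * (q * q) * b * q := by rw [hq2]; group
        _ = (q * a * q) * (q * b * q) := by group
    rw [h', hinv a ha, hinv b hb, ← mul_inv_rev] at h
    exact (inv_injective h).symm
  let toE : U → AddMonoid.End V := fun u => DistribSMul.toAddMonoidHom V (u : H)
  have htoE : ∀ (u : U) (v : V), toE u v = (u : H) • v := fun _ _ => rfl
  let A : Subring (AddMonoid.End V) := Subring.closure (Set.range toE)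
  have hA1 : A ≤ Subring.centralizer (Set.range toE) := by
    refine Subring.closure_le.2 ?_
    rintro _ ⟨u, rfl⟩ _ ⟨w, rfl⟩
    refine AddMonoidHom.ext fun v => ?_
    show (w : H) • (u : H) • v = (u : H) • (w : H) • v
    rw [smul_smul, smul_smul, hcomm _ w.2 _ u.2]
  have hA2 : A ≤ Subring.centralizer (A : Set (AddMonoid.End V)) := by
    refine Subring.closure_le.2 ?_
    intro x hx y hy
    exact (hA1 hy x hx).symm
  have hmulc : ∀ a b : A, a * b = b * a := fun a b => Subtype.ext (hA2 b.2 a a.2)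
  -- invariant subgroups
  have hinvsub : ∀ S : AddSubgroup V, (∀ u ∈ U, ∀ v ∈ S, u • v ∈ S) → S = ⊥ ∨ S = ⊤ := by
    intro S hS
    refine hirr S fun g v hv => ?_
    have hq : ∀ w ∈ S, q • w ∈ S := by
      intro w hw
      obtain ⟨u, hu, h⟩ := hcov w
      have : u • w = q • w := by
        nth_rewrite 2 [← h]
        rw [mul_smul, smul_smul q q, hq2, one_smul]
      exact this ▸ hS u hu w hw
    rcases hsplit g with h | h
    · exact hS g h v hv
    · have := hq _ (hS _ h v hv)
      rwa [smul_smul, ← mul_assoc, hq2, one_mul] at this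
  have hinj : ∀ a : A, a ≠ 0 → ∀ v : V, (a : AddMonoid.End V) v = 0 → v = 0 := by
    intro a ha v hv
    rcases hinvsub (AddMonoidHom.ker (a : AddMonoid.End V)) (fun u hu w hw => by
      have h := congrArg (fun f : AddMonoid.End V => f w) (hA1 a.2 (toE ⟨u, hu⟩) ⟨_, rfl⟩)
      simp only [AddMonoid.End.coe_mul, Function.comp_apply, htoE] at h
      show (a : AddMonoid.End V) (u • w) = 0
      rw [← h, show (a : AddMonoid.End V) w = 0 from hw, smul_zero]) with h | h
    · exact (AddSubgroup.mem_bot).1 (h ▸ hv : v ∈ (⊥ : AddSubgroup V))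
    · refine absurd (Subtype.ext (AddMonoidHom.ext fun w => ?_)) ha
      exact (h ▸ trivial : w ∈ AddMonoidHom.ker (a : AddMonoid.End V))
  have : Finite (AddMonoid.End V) := Finite.of_injective _ DFunLike.coe_injective
  letI : CommRing A := { (inferInstance : Ring A) with mul_comm := hmulc }
  have hnt : Nontrivial A :=
    ⟨⟨1, 0, fun h => hv0 (congrArg (fun f : A => (f : AddMonoid.End V) v0) h)⟩⟩
  haveI : NoZeroDivisors A := ⟨fun {a b} hab => by
    by_contra hne
    push Not at hne
    have h : (a : AddMonoid.End V) ((b : AddMonoid.End V) v0) = 0 :=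
      congrArg (fun f : A => (f : AddMonoid.End V) v0) hab
    exact hv0 (hinj b hne.2 v0 (hinj a hne.1 _ h))⟩
  haveI : IsDomain A := NoZeroDivisors.to_isDomain A
  letI : Field A := (Finite.isField_of_domain A).toField
  -- evaluation at `v0`
  let ev : A →+ V :=
    { toFun := fun a => (a : AddMonoid.End V) v0
      map_zero' := rfl
      map_add' := fun _ _ => rfl }
  have hev : Function.Bijective ev := by
    refine ⟨(injective_iff_map_eq_zero ev).2 fun a ha => ?_, fun w => ?_⟩
    · by_contra h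
      exact hv0 (hinj a h v0 ha)
    · rcases hinvsub ev.range (fun u hu w hw => by
        obtain ⟨a, rfl⟩ := hw
        exact ⟨⟨toE ⟨u, hu⟩, Subring.subset_closure ⟨_, rfl⟩⟩ * a, rfl⟩) with h | h
      · exact absurd ((AddSubgroup.mem_bot).1 (h ▸ ⟨1, rfl⟩ : v0 ∈ (⊥ : AddSubgroup V))) hv0
      · exact (h ▸ trivial : w ∈ ev.range)
  let eA : A ≃+ V := AddEquiv.ofBijective ev hev
  -- conjugation by `q`
  let qe : AddMonoid.End V := DistribSMul.toAddMonoidHom V q
  have hqe : qe * qe = 1 := AddMonoidHom.ext fun v => by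
    show q • q • v = v
    rw [smul_smul, hq2, one_smul]
  let τ : AddMonoid.End V ≃+* AddMonoid.End V :=
    { toFun := fun x => qe * x * qe
      invFun := fun x => qe * x * qe
      left_inv := fun x => by
        show qe * (qe * x * qe) * qe = x
        simp only [mul_assoc, hqe, mul_one]
        rw [← mul_assoc, hqe, one_mul]
      right_inv := fun x => by
        show qe * (qe * x * qe) * qe = x
        simp only [mul_assoc, hqe, mul_one]
        rw [← mul_assoc, hqe, one_mul]
      map_mul' := fun x y => by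
        show qe * (x * y) * qe = qe * x * qe * (qe * y * qe)
        simp only [mul_assoc]
        rw [← mul_assoc qe qe, hqe, one_mul]
      map_add' := fun x y => by
        show qe * (x + y) * qe = qe * x * qe + qe * y * qe
        rw [mul_add, add_mul] }
  have hτA : ∀ x ∈ A, τ x ∈ A := by
    intro x hx
    induction hx using Subring.closure_induction with
    | mem y hy =>
      obtain ⟨u, rfl⟩ := hy
      refine Subring.subset_closure ⟨u⁻¹, AddMonoidHom.ext fun v => ?_⟩
      show ((u⁻¹ : U) : H) • v = q • (u : H) • q • v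
      rw [Subgroup.coe_inv, ← hinv _ u.2, mul_smul, mul_smul]
    | zero => rw [map_zero]; exact zero_mem _
    | one => rw [map_one]; exact one_mem _
    | add _ _ _ _ h1 h2 => rw [map_add]; exact add_mem h1 h2
    | neg _ _ h1 => rw [map_neg]; exact neg_mem h1
    | mul _ _ _ _ h1 h2 => rw [map_mul]; exact mul_mem h1 h2
  let σA : A ≃+* A :=
    { toFun := fun a => ⟨τ a, hτA a a.2⟩
      invFun := fun a => ⟨τ a, hτA a a.2⟩
      left_inv := fun a => Subtype.ext (τ.left_inv a)
      right_inv := fun a => Subtype.ext (τ.right_inv a)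
      map_mul' := fun a b => Subtype.ext (map_mul τ (a : AddMonoid.End V) b)
      map_add' := fun a b => Subtype.ext (map_add τ (a : AddMonoid.End V) b) }
  -- a copy in `Type`
  obtain ⟨n, ⟨eF⟩⟩ := Finite.exists_equiv_fin A
  let eC : FieldCarrier n ≃ A :=
    { toFun := fun x => eF.symm x.val
      invFun := fun a => ⟨eF a⟩
      left_inv := fun x => by simp
      right_inv := fun a => by simp }
  letI : Field (FieldCarrier n) := eC.field
  let ψ : FieldCarrier n ≃+* A := Equiv.ringEquiv eC
  refine ⟨FieldCarrier n, inferInstance, eA.symm.trans ψ.symm.toAddEquiv,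
    fun u => ψ.symm ⟨toE u, Subring.subset_closure ⟨_, rfl⟩⟩, (ψ.trans σA).trans ψ.symm, ?_, ?_⟩
  · intro u v
    show ψ.symm (eA.symm ((u : H) • v)) = ψ.symm _ * ψ.symm (eA.symm v)
    rw [← map_mul ψ.symm]
    congr 1
    rw [AddEquiv.symm_apply_eq]
    show (u : H) • v = (u : H) • ev (eA.symm v)
    rw [show ev (eA.symm v) = v from eA.apply_symm_apply v]
  · intro v
    show ψ.symm (eA.symm (q • v)) = ψ.symm (σA (ψ (ψ.symm (eA.symm v))))
    rw [RingEquiv.apply_symm_apply]
    congr 1
    rw [AddEquiv.symm_apply_eq]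
    have hv : ((eA.symm v : A) : AddMonoid.End V) v0 = v := eA.apply_symm_apply v
    show q • v = q • ((eA.symm v : A) : AddMonoid.End V) (q • v0)
    rw [hqv0, hv]

/-- The affine group of a circle with inversion. -/
theorem circle_field (hirr : Irr H V) (hc : Circle H V) :
    ∃ (F E : Type) (_ : Field F) (_ : Fintype F) (_ : Field E) (_ : Fintype E) (_ : Algebra F E)
      (e : V ≃+ E), Module.finrank F E = 2 ∧
      (∀ h : H, ∃ (a : E) (φ : E ≃ₐ[F] E), Algebra.norm F a = 1 ∧
        ∀ v, e (h • v) = a * φ (e v)) ∧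
      (∀ (a : E) (φ : E ≃ₐ[F] E), Algebra.norm F a = 1 →
        ∃ h : H, ∀ v, e (h • v) = a * φ (e v)) := by
  classical
  obtain ⟨U, q0, Q, hQ2, hVcard, hUcard, hq02, hq0U, hinv0, hsplit0, hfpf, hcov0⟩ := hc
  have : Nontrivial V := Finite.one_lt_card_iff_nontrivial.1 (by rw [hVcard]; nlinarith)
  obtain ⟨v0, hv0⟩ := exists_ne (0 : V)
  obtain ⟨u0, hu0, hqv0⟩ := hcov0 v0
  -- re-centre at `q = q0 u0`, which fixes `v0`
  set q := q0 * u0 with hq
  have hcommU : ∀ a ∈ U, ∀ b ∈ U, a * b = b * a := by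
    intro a ha b hb
    have h := hinv0 (a * b) (mul_mem ha hb)
    have h' : q0 * (a * b) * q0 = (q0 * a * q0) * (q0 * b * q0) := by
      calc q0 * (a * b) * q0 = q0 * a * (q0 * q0) * b * q0 := by rw [hq02]; group
        _ = (q0 * a * q0) * (q0 * b * q0) := by group
    rw [h', hinv0 a ha, hinv0 b hb, ← mul_inv_rev] at h
    exact (inv_injective h).symm
  have hqu : ∀ u ∈ U, q0 * u = u⁻¹ * q0 := fun u hu => by
    rw [← hinv0 u hu, mul_assoc, hq02, mul_one]
  have hq2 : q * q = 1 := by
    show q0 * u0 * (q0 * u0) = 1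
    rw [← mul_assoc, hinv0 u0 hu0, inv_mul_cancel]
  have hqU : q ∉ U := fun h => hq0U (by simpa [hq] using mul_mem h (inv_mem hu0))
  have hinv : ∀ u ∈ U, q * u * q = u⁻¹ := by
    intro u hu
    show q0 * u0 * u * (q0 * u0) = u⁻¹
    rw [mul_assoc q0 u0 u, hcommU u0 hu0 u hu,
      show q0 * (u * u0) * (q0 * u0) = (q0 * (u * u0) * q0) * u0 by group,
      hinv0 _ (mul_mem hu hu0), mul_inv_rev, hcommU _ (inv_mem hu0) _ (inv_mem hu), mul_assoc,
      inv_mul_cancel, mul_one]
  have hsplit : ∀ g : H, g ∈ U ∨ q * g ∈ U := by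
    intro g
    rcases hsplit0 g with h | h
    · exact Or.inl h
    · refine Or.inr ?_
      rw [hq, hqu u0 hu0, mul_assoc]
      exact mul_mem (inv_mem hu0) h
  have hcov : ∀ v : V, ∃ u ∈ U, (q * u) • v = v := by
    intro v
    obtain ⟨u, hu, h⟩ := hcov0 v
    refine ⟨u0⁻¹ * u, mul_mem (inv_mem hu0) hu, ?_⟩
    rwa [hq, mul_assoc, mul_inv_cancel_left]
  obtain ⟨E, _, e, μ, σ, hμ, hσ⟩ :=
    exists_field hirr hq2 (fun h => hqU (h ▸ one_mem _)) hinv hsplit hcov hv0 hqv0
  have : Finite E := Finite.of_equiv V e.toEquiv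
  have := Fintype.ofFinite E
  have hEcard : Nat.card E = Q ^ 2 := by rw [← Nat.card_congr e.toEquiv, hVcard]
  let F : Subfield E := RingHom.eqLocusField (σ : E →+* E) (RingHom.id E)
  have := Fintype.ofFinite F
  have hFmem : ∀ a : E, a ∈ F ↔ σ a = a := fun a => Iff.rfl
  have hσ2 : ∀ a, σ (σ a) = a := fun a => by
    obtain ⟨v, rfl⟩ := e.surjective a
    rw [← hσ, ← hσ, ← mul_smul, hq2, one_smul]
  obtain ⟨θ, hθ⟩ : ∃ θ, σ θ ≠ θ := by
    by_contra h
    push Not at h
    have h1 : q = 1 := eq_of_smul_eq_smul fun v : V => e.injective (by rw [hσ, h, one_smul])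
    exact hqU (h1 ▸ one_mem _)
  have hθ' : θ - σ θ ≠ 0 := sub_ne_zero.2 (Ne.symm hθ)
  let f : F × F → E := fun x => (x.1 : E) + x.2 * θ
  have hf : Function.Bijective f := by
    constructor
    · rintro ⟨x, y⟩ ⟨x', y'⟩ h
      have h1 : (x : E) + y * θ = x' + y' * θ := h
      have h2 := congrArg σ h1
      rw [map_add, map_add, map_mul, map_mul, (hFmem _).1 x.2, (hFmem _).1 y.2, (hFmem _).1 x'.2,
        (hFmem _).1 y'.2] at h2
      have h3 : ((y : E) - y') * (θ - σ θ) = 0 := by linear_combination h1 - h2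
      have hy : (y : E) = y' := sub_eq_zero.1 ((mul_eq_zero.1 h3).resolve_right hθ')
      rw [hy] at h1
      exact Prod.ext (Subtype.ext (add_right_cancel h1)) (Subtype.ext hy)
    · intro a
      have hy : (a - σ a) / (θ - σ θ) ∈ F := by
        rw [hFmem, map_div₀, map_sub, map_sub, hσ2, hσ2, ← neg_sub a, ← neg_sub θ, neg_div_neg_eq]
      have hx : a - (a - σ a) / (θ - σ θ) * θ ∈ F := by
        rw [hFmem, map_sub, map_mul, (hFmem _).1 hy]
        field_simp
        ring
      exact ⟨⟨⟨_, hx⟩, ⟨_, hy⟩⟩, sub_add_cancel _ _⟩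
  have hFcard : Nat.card F = Q := by
    have h := Nat.card_congr (Equiv.ofBijective f hf)
    rw [Nat.card_prod, hEcard, pow_two] at h
    exact Nat.mul_self_inj.1 h
  have hfin : Module.finrank F E = 2 := by
    have h := Module.natCard_eq_pow_finrank (K := F) (V := E)
    rw [hFcard, hEcard] at h
    exact (Nat.pow_right_injective hQ2 h).symm
  let σF : E ≃ₐ[F] E := AlgEquiv.ofRingEquiv (f := σ) fun x => x.2
  have hφ : ∀ φ : E ≃ₐ[F] E, (∀ a, φ a = a) ∨ (∀ a, φ a = σ a) := by
    intro φ
    have hfix : ∀ x : E, σ x = x → φ x = x := fun x hx => φ.commutes ⟨x, hx⟩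
    have ht : σ (θ + σ θ) = θ + σ θ := by rw [map_add, hσ2, add_comm]
    have hn : σ (θ * σ θ) = θ * σ θ := by rw [map_mul, hσ2, mul_comm]
    have h0 : φ θ * φ θ - (θ + σ θ) * φ θ + θ * σ θ = 0 := by
      have h1 : φ (θ * θ - (θ + σ θ) * θ + θ * σ θ) = 0 := by
        rw [show θ * θ - (θ + σ θ) * θ + θ * σ θ = 0 by ring, map_zero]
      rwa [map_add, map_sub, map_mul, map_mul, hfix _ ht, hfix _ hn] at h1
    have h2 : (φ θ - θ) * (φ θ - σ θ) = 0 := by linear_combination h0
    rcases mul_eq_zero.1 h2 with h | h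
    · left
      intro a
      obtain ⟨⟨x, y⟩, rfl⟩ := hf.2 a
      show φ ((x : E) + y * θ) = (x : E) + y * θ
      rw [map_add, map_mul, hfix _ x.2, hfix _ y.2, sub_eq_zero.1 h]
    · right
      intro a
      obtain ⟨⟨x, y⟩, rfl⟩ := hf.2 a
      show φ ((x : E) + y * θ) = σ ((x : E) + y * θ)
      rw [map_add, map_mul, map_add, map_mul, hfix _ x.2, hfix _ y.2, (hFmem _).1 x.2,
        (hFmem _).1 y.2, sub_eq_zero.1 h]
  -- the norm-one elements are the image of `U`
  have hexp : (Nat.card E - 1) / (Nat.card F - 1) = Q + 1 := by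
    rw [hEcard, hFcard]
    have : Q ^ 2 - 1 = (Q + 1) * (Q - 1) := by rw [← Nat.sq_sub_sq]
    rw [this, Nat.mul_div_cancel _ (by omega)]
  have hnorm : ∀ a : E, Algebra.norm F a = 1 ↔ a ^ (Q + 1) = 1 := by
    intro a
    rw [← hexp, ← FiniteField.algebraMap_norm_eq_pow (K := F) (x := a)]
    exact ⟨fun h => by rw [h, map_one], fun h => (algebraMap F E).injective (by rw [h, map_one])⟩
  have hμinj : Function.Injective μ := fun u w h => Subtype.ext
    (eq_of_smul_eq_smul fun v : V => e.injective (by rw [hμ, hμ, h]))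
  have hμpow : ∀ (u : U) (k : ℕ) (v : V), e (((u : H) ^ k) • v) = μ u ^ k * e v := by
    intro u k
    induction k with
    | zero => intro v; simp
    | succ k ih => intro v; rw [pow_succ, mul_smul, ih, hμ, pow_succ, mul_assoc]
  have hμone : ∀ u : U, μ u ^ (Q + 1) = 1 := by
    intro u
    have h : (u : H) ^ (Q + 1) = 1 := by
      rw [← hUcard, ← Subgroup.coe_pow, pow_card_eq_one', Subgroup.coe_one]
    have h1 := hμpow u (Q + 1) (e.symm 1)
    rw [h, one_smul, AddEquiv.apply_symm_apply, mul_one] at h1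
    exact h1.symm
  have himage : ∀ a : E, a ^ (Q + 1) = 1 → ∃ u, μ u = a := by
    intro a ha
    have : Finite U := Nat.finite_of_card_ne_zero (by omega)
    have := Fintype.ofFinite U
    have hsub : Finset.univ.image μ ⊆ (Polynomial.nthRoots (Q + 1) (1 : E)).toFinset := by
      intro x hx
      obtain ⟨u, -, rfl⟩ := Finset.mem_image.1 hx
      rw [Multiset.mem_toFinset, Polynomial.mem_nthRoots (by omega)]
      exact hμone u
    have hle : (Polynomial.nthRoots (Q + 1) (1 : E)).toFinset.card ≤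
        (Finset.univ.image μ).card := by
      rw [Finset.card_image_of_injective _ hμinj, Finset.card_univ, ← Nat.card_eq_fintype_card,
        hUcard]
      exact (Multiset.toFinset_card_le _).trans (Polynomial.card_nthRoots _ _)
    have ha' : a ∈ Finset.univ.image μ := by
      rw [Finset.eq_of_subset_of_card_le hsub hle, Multiset.mem_toFinset,
        Polynomial.mem_nthRoots (by omega)]
      exact ha
    obtain ⟨u, -, hu⟩ := Finset.mem_image.1 ha'
    exact ⟨u, hu⟩
  refine ⟨F, E, inferInstance, inferInstance, inferInstance, inferInstance, inferInstance, e,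
    hfin, ?_, ?_⟩
  · intro h
    rcases hsplit h with hh | hh
    · exact ⟨μ ⟨h, hh⟩, AlgEquiv.refl, (hnorm _).2 (hμone _), fun v => hμ ⟨h, hh⟩ v⟩
    · refine ⟨μ ⟨_, hh⟩⁻¹, σF, (hnorm _).2 (hμone _), fun v => ?_⟩
      show e (h • v) = μ _ * σ (e v)
      rw [← hσ, ← hμ]
      congr 1
      rw [Subgroup.coe_inv, ← hinv _ hh, smul_smul,
        show q * (q * h) * q * q = (q * q) * h * (q * q) by group, hq2, one_mul, mul_one]
  · intro a φ ha
    obtain ⟨u, rfl⟩ := himage a ((hnorm a).1 ha)
    rcases hφ φ with h | h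
    · exact ⟨u, fun v => by rw [hμ, h]⟩
    · exact ⟨u * q, fun v => by rw [mul_smul, hμ, hσ, h]⟩

end Cfsg.Agent.BinAff
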