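/-
Binary affine groups in odd characteristic: planes spanned by two reflections.
-/
import Cfsg.Agent.Lib.Fus.BinAff.Basic

set_option autoImplicit false
set_option linter.unusedSectionVars false

namespace Cfsg.Agent.BinAff

variable {H V : Type*} [Group H] [AddCommGroup V] [DistribMulAction H V]

/-- `V` is elementary abelian of odd exponent. -/
def OddV (V : Type*) [AddCommGroup V] : Prop :=
  ∃ p : ℕ, p.Prime ∧ p ≠ 2 ∧ ∀ v : V, p • v = 0

theorem OddV.elem (hV : OddV V) : Elem V := let ⟨p, hp, _, h⟩ := hV; ⟨p, hp, h⟩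

/-- Division by two. -/
noncomputable def hlf (hV : OddV V) (v : V) : V := ((hV.choose + 1) / 2) • v

theorem hlf_add (hV : OddV V) (v : V) : hlf hV v + hlf hV v = v := by
  obtain ⟨hp, hp2, hpv⟩ := hV.choose_spec
  obtain ⟨m, hm⟩ := hp.odd_of_ne_two hp2
  have := hpv v
  rw [hm] at this
  rw [hlf, hm, show (2 * m + 1 + 1) / 2 = m + 1 by omega, ← add_nsmul,
    show m + 1 + (m + 1) = (2 * m + 1) + 1 by ring, succ_nsmul, this, zero_add]

theorem hlf_mem (hV : OddV V) {A : AddSubgroup V} {v : V} (hv : v ∈ A) : hlf hV v ∈ A :=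
  nsmul_mem hv _

theorem smul_hlf (hV : OddV V) (h : H) (v : V) : h • hlf hV v = hlf hV (h • v) :=
  smul_comm _ _ _

theorem OddV.two_cancel (hV : OddV V) {v : V} (h : v + v = 0) : v = 0 := by
  rw [← hlf_add hV v]
  unfold hlf
  rw [← add_nsmul, ← two_mul, mul_comm, mul_nsmul', two_nsmul, h, nsmul_zero]

theorem mem_movV_of_neg (hV : OddV V) {q : H} {v : V} (h : q • v = -v) : v ∈ movV q := by
  refine mem_movV.2 ⟨-hlf hV v, ?_⟩
  rw [smul_neg, smul_hlf, h]
  have h1 : hlf hV (-v) = -hlf hV v := by unfold hlf; rw [smul_neg]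
  rw [h1, neg_neg, eq_neg_add_iff_add_eq]
  exact hlf_add hV v

variable [FaithfulSMul H V] [Finite V]

theorem eq_zero_of_fix_mov (hV : OddV V) {q : H} (hq2 : q * q = 1) {v : V} (h1 : q • v = v)
    (h2 : v ∈ movV q) : v = 0 := by
  have h := smul_movV hq2 h2
  rw [h1] at h
  exact hV.two_cancel (by nth_rewrite 1 [h]; exact neg_add_cancel v)

theorem exists_decomp (hV : OddV V) {q : H} (hq2 : q * q = 1) {A : AddSubgroup V} {v : V}
    (hv : v ∈ A) (hqv : q • v ∈ A) :
    ∃ f w, f ∈ A ∧ q • f = f ∧ w ∈ A ∧ w ∈ movV q ∧ f + w = v := by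
  refine ⟨hlf hV (v + q • v), hlf hV (v - q • v), hlf_mem hV (add_mem hv hqv), ?_,
    hlf_mem hV (sub_mem hv hqv), mem_movV_of_neg hV ?_, ?_⟩
  · rw [smul_hlf, smul_add, ← mul_smul, hq2, one_smul, add_comm]
  · rw [smul_hlf, smul_sub, ← mul_smul, hq2, one_smul]
    unfold hlf
    rw [← smul_neg, neg_sub]
  · unfold hlf
    rw [← nsmul_add, show v + q • v + (v - q • v) = v + v by abel, nsmul_add]
    exact hlf_add hV v

theorem card_inf_mul_le {A B : AddSubgroup V} :
    Nat.card V ≤ Nat.card (A ⊓ B : AddSubgroup V) * (A.index * B.index) := by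
  conv_lhs => rw [← AddSubgroup.card_mul_index (A ⊓ B)]
  exact Nat.mul_le_mul_left _ (AddSubgroup.index_inf_le)

theorem card_mul_le_sub {A B P : AddSubgroup V} (hA : A ≤ P) (hB : B ≤ P)
    (h : ∀ v ∈ A, v ∈ B → v = 0) : Nat.card A * Nat.card B ≤ Nat.card P := by
  rw [← Nat.card_prod]
  refine Nat.card_le_card_of_injective
    (fun x : A × B => (⟨x.1.1 + x.2.1, add_mem (hA x.1.2) (hB x.2.2)⟩ : P)) fun x y hxy => ?_
  have h0 : (x.1 : V) + x.2 = y.1 + y.2 := congrArg Subtype.val hxy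
  have h1 : (x.1 : V) - y.1 = y.2 - x.2 := by
    rw [sub_eq_sub_iff_add_eq_add]
    exact h0.trans (add_comm _ _)
  have h2 := h _ (sub_mem x.1.2 y.1.2) (h1 ▸ sub_mem y.2.2 x.2.2)
  have h3 : (y.2 : V) - x.2 = 0 := h1 ▸ h2
  exact Prod.ext (Subtype.ext (sub_eq_zero.1 h2)) (Subtype.ext (sub_eq_zero.1 h3).symm)

theorem decomp_of_card {A B : AddSubgroup V} (h : ∀ v ∈ A, v ∈ B → v = 0)
    (hc : Nat.card V ≤ Nat.card A * Nat.card B) (v : V) : ∃ a ∈ A, ∃ b ∈ B, a + b = v := by
  have hinj : Function.Injective fun x : A × B => (x.1 : V) + x.2 := by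
    intro x y hxy
    have h1 : (x.1 : V) - y.1 = y.2 - x.2 := by
      rw [sub_eq_sub_iff_add_eq_add]
      exact hxy.trans (add_comm _ _)
    have h2 := h _ (sub_mem x.1.2 y.1.2) (h1 ▸ sub_mem y.2.2 x.2.2)
    have h3 : (y.2 : V) - x.2 = 0 := h1 ▸ h2
    exact Prod.ext (Subtype.ext (sub_eq_zero.1 h2)) (Subtype.ext (sub_eq_zero.1 h3).symm)
  obtain ⟨⟨a, b⟩, hab⟩ := (hinj.bijective_of_nat_card_le (by rwa [Nat.card_prod])).2 v
  exact ⟨a, a.2, b, b.2, hab⟩

theorem IsTop.of_card {q h : H} (hq : IsTop V q) (h1 : h ≠ 1)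
    (hc : Nat.card (movV (V := V) h) ≤ Nat.card (movV (V := V) q)) : IsTop V h := by
  refine ⟨h1, fun x hx => (hq.2 x hx).trans ?_⟩
  have e1 := card_fix_mul_mov (V := V) h
  have e2 := card_fix_mul_mov (V := V) q
  have : 0 < Nat.card (movV (V := V) q) := Nat.card_pos
  nlinarith

theorem IsTop.card_mov_eq {q r : H} (hq : IsTop V q) (hr : IsTop V r) :
    Nat.card (movV (V := V) r) = Nat.card (movV (V := V) q) := by
  have e1 := card_fix_mul_mov (V := V) r
  have e2 := card_fix_mul_mov (V := V) q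
  have h := le_antisymm (hq.2 r hr.1) (hr.2 q hq.1)
  rw [h] at e1
  exact Nat.eq_of_mul_eq_mul_left Nat.card_pos (e1.trans e2.symm)

theorem index_fixV (h : H) : (fixV (V := V) h).index = Nat.card (movV (V := V) h) :=
  AddSubgroup.index_ker _

theorem exists_ne_zero_mov {q : H} (hq : IsTop V q) : ∃ c ∈ movV (V := V) q, c ≠ 0 := by
  by_contra h
  push Not at h
  exact hq.1 (eq_one_of_forall fun v : V => sub_eq_zero.1 (h _ ⟨v, rfl⟩))

/-- Orbits meet `[V,q]` in `{±c}`. -/
theorem orbit_mov (hext : Ext H V) (hV : Elem V) {q g : H} (hq : IsTop V q) {c d : V}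
    (hc : c ∈ movV q) (hd : d ∈ movV q) (hg : g • c = d) : d = c ∨ d = -c := by
  obtain ⟨x, -, hx1, hx2⟩ := hext.swap (h0 := g) (∅ : Set V) (b := c) (by simp) hg
  rcases eq_or_ne (c + d) 0 with h | h
  · exact Or.inr (eq_neg_of_add_eq_zero_right h)
  refine Or.inl ?_
  have hfix : x • (c + d) = c + d := by rw [smul_add, hx1, hx2, add_comm]
  rw [← hx1]
  exact hq.fix_mov_of_fix hext hV h (add_mem hc hd) hfix hc

theorem commute_pm (hext : Ext H V) (hV : Elem V) {q x : H} (hq : IsTop V q) (hx : Commute x q)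
    {c : V} (hc : c ∈ movV q) : x • c = c ∨ x • c = -c :=
  orbit_mov hext hV hq hc (smul_mem_movV_of_commute hx hc) rfl

/-- There are no elements of order `p`. -/
theorem eq_one_of_pow_prime (hext : Ext H V) (hV : OddV V) {h : H}
    (hh : h ^ hV.choose = 1) : h = 1 := by
  obtain ⟨hp, hp2, hpv⟩ := hV.choose_spec
  set p := hV.choose with hpdef
  have : Fact p.Prime := ⟨hp⟩
  by_contra hne
  obtain ⟨c, hc0, ⟨v, hv⟩, hfix⟩ : ∃ c : V, c ≠ 0 ∧ (∃ v, h • v = v + c) ∧ h • c = c := by
    let W := movV (V := V) h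
    let _ : MulAction (Subgroup.zpowers h) W :=
      { smul := fun g w => ⟨(g : H) • (w : V), smul_mem_movV_of_commute (by
          obtain ⟨m, hm⟩ := Subgroup.mem_zpowers_iff.1 g.2
          rw [← hm]; exact Commute.zpow_self h m) w.2⟩
        one_smul := fun w => Subtype.ext (one_smul H (w : V))
        mul_smul := fun g g' w => Subtype.ext (mul_smul (g : H) (g' : H) (w : V)) }
    have hP : IsPGroup p (Subgroup.zpowers h) := by
      refine IsPGroup.of_card (n := 1) ?_
      rw [Nat.card_zpowers, pow_one, orderOf_eq_prime hh hne]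
    have hW : W ≠ ⊥ := fun e => hne (eq_one_of_forall fun v : V =>
      sub_eq_zero.1 ((AddSubgroup.mem_bot).1 (e ▸ ⟨v, rfl⟩ : dlt h v ∈ (⊥ : AddSubgroup V))))
    have hdvd : p ∣ Nat.card W := by
      obtain ⟨w, hw, hw0⟩ := (AddSubgroup.bot_or_exists_ne_zero W).resolve_left hW
      have ho : addOrderOf (⟨w, hw⟩ : W) = p :=
        addOrderOf_eq_prime (Subtype.ext (hpv w)) (fun e => hw0 (congrArg Subtype.val e))
      exact ho ▸ addOrderOf_dvd_natCard _
    have h0 : (0 : W) ∈ MulAction.fixedPoints (Subgroup.zpowers h) W :=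
      fun g => Subtype.ext (smul_zero (g : H))
    obtain ⟨w, hw, hw0⟩ := hP.exists_fixed_point_of_prime_dvd_card_of_fixed_point W hdvd h0
    exact ⟨w, fun e => hw0 (Subtype.ext e.symm), mem_movV.1 w.2,
      congrArg Subtype.val (hw ⟨h, Subgroup.mem_zpowers h⟩)⟩
  obtain ⟨x, -, hx1, hx2⟩ := hext.swap (h0 := h * h) (∅ : Set V) (b := v) (b' := v + c + c)
    (by simp) (by rw [mul_smul, hv, smul_add, hv, hfix])
  have hb : x • (v + c) = v + c := by
    have h1 : x • ((v + c) + (v + c)) = (v + c) + (v + c) := by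
      rw [show (v + c) + (v + c) = v + (v + c + c) by abel, smul_add, hx1, hx2]
      abel
    rw [smul_add, ← sub_eq_zero] at h1
    refine sub_eq_zero.1 (hV.two_cancel ?_)
    rw [← h1]; abel
  have hcx : c ∈ movV x := by
    have h1 : c + c ∈ movV x := mem_movV.2 ⟨v, by rw [hx1]; abel⟩
    have h2 := hlf_mem hV h1
    have h3 : hlf hV (c + c) = c := by
      unfold hlf; rw [nsmul_add]; exact hlf_add hV c
    rwa [h3] at h2
  exact hc0 (hext.eq_zero_of_orbit hb hcx (g := h) (by rw [smul_add, hv, hfix]))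

variable [Finite H]

/-- The sum over the pointwise stabiliser of `S`: its kernel is a complement to `S`. -/
theorem exists_compl (hext : Ext H V) (hV : OddV V) (S : AddSubgroup V) :
    ∃ P : AddSubgroup V, (∀ h : H, (∀ s ∈ S, h • s = s) →
        movV h ≤ P ∧ ∀ v ∈ P, h • v ∈ P) ∧ (∀ v ∈ S, v ∈ P → v = 0) := by
  classical
  let K : Subgroup H :=
    { carrier := {h | ∀ s ∈ S, h • s = s}
      one_mem' := fun s _ => one_smul H s
      mul_mem' := fun ha hb s hs => by rw [mul_smul, hb s hs, ha s hs]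
      inv_mem' := fun ha s hs => inv_smul_eq_iff.2 (ha s hs).symm }
  have := Fintype.ofFinite K
  let σ : V →+ V := ∑ k : K, DistribSMul.toAddMonoidHom V (k : H)
  have hσ : ∀ v : V, σ v = ∑ k : K, (k : H) • v := fun v => by simp [σ]
  refine ⟨σ.ker, fun h hh => ?_, fun v hvS hvP => ?_⟩
  · have hinv : ∀ v, σ (h • v) = σ v := fun v => by
      rw [hσ, hσ]
      exact Fintype.sum_equiv (Equiv.mulRight (⟨h, hh⟩ : K)) _ _ fun k => by
        simp [mul_smul]
    refine ⟨?_, fun v hv => ?_⟩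
    · rintro _ ⟨v, rfl⟩
      rw [AddMonoidHom.mem_ker, dlt_apply, map_sub, hinv, sub_self]
    · rw [AddMonoidHom.mem_ker, hinv]; exact hv
  · rw [AddMonoidHom.mem_ker, hσ, Finset.sum_eq_card_nsmul (b := v) fun k _ => k.2 v hvS] at hvP
    obtain ⟨hp, hp2, hpv⟩ := hV.choose_spec
    set p := hV.choose with hpdef
    have : Fact p.Prime := ⟨hp⟩
    by_contra hv0
    have ho : addOrderOf v = p := addOrderOf_eq_prime (hpv v) hv0
    have hdvd : p ∣ Nat.card K := by
      rw [← ho, Nat.card_eq_fintype_card, ← Finset.card_univ]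
      exact addOrderOf_dvd_of_nsmul_eq_zero hvP
    have : Fact p.Prime := ⟨hp⟩
    obtain ⟨k, hk⟩ := exists_prime_orderOf_dvd_card' p hdvd
    have hk1 : (k : H) = 1 := eq_one_of_pow_prime hext hV (by
      have := pow_orderOf_eq_one k
      rw [hk] at this
      simpa [hpdef] using congrArg Subtype.val this)
    have : k = 1 := Subtype.ext hk1
    rw [this, orderOf_one] at hk
    exact hp.one_lt.ne hk

/-- The plane of two distinct reflections. -/
def pl (V : Type*) [AddCommGroup V] [DistribMulAction H V] (q r : H) : AddSubgroup V :=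
  movV q ⊔ movV r

/-- The common fixed space of two reflections. -/
def cm (V : Type*) [AddCommGroup V] [DistribMulAction H V] (q r : H) : AddSubgroup V :=
  fixV q ⊓ fixV r

theorem plane_basic (hext : Ext H V) (hV : OddV V) {q r : H} (hq : IsTop V q) (hr : IsTop V r)
    (hne : q ≠ r) :
    Nat.card (pl V q r) = Nat.card (movV (V := V) q) ^ 2 ∧
    Nat.card (cm V q r) * Nat.card (pl V q r) = Nat.card V ∧
    (∀ v ∈ cm V q r, v ∈ pl V q r → v = 0) ∧
    (∀ h : H, (∀ s ∈ cm V q r, h • s = s) →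
      movV h ≤ pl V q r ∧ ∀ v ∈ pl V q r, h • v ∈ pl V q r) := by
  obtain ⟨P, hP, hdis⟩ := exists_compl hext hV (cm V q r)
  have hqP := (hP q fun s hs => mem_fixV.1 (AddSubgroup.mem_inf.1 hs).1).1
  have hrP := (hP r fun s hs => mem_fixV.1 (AddSubgroup.mem_inf.1 hs).2).1
  have hle : pl V q r ≤ P := sup_le hqP hrP
  have h1 : Nat.card (movV (V := V) q) ^ 2 ≤ Nat.card (pl V q r) := by
    rw [pow_two]
    nth_rewrite 2 [← hq.card_mov_eq hr]
    refine card_mul_le_sub le_sup_left le_sup_right fun v h1 h2 => ?_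
    by_contra h0
    exact hne (hq.eq_of_mov hext hr h0 h1 h2)
  have h2 : Nat.card V ≤ Nat.card (cm V q r) * Nat.card (movV (V := V) q) ^ 2 := by
    have := card_inf_mul_le (A := fixV (V := V) q) (B := fixV (V := V) r)
    rwa [index_fixV, index_fixV, hq.card_mov_eq hr, ← pow_two] at this
  have h3 : Nat.card (cm V q r) * Nat.card P ≤ Nat.card V := card_mul_le hdis
  have h4 : Nat.card (pl V q r) ≤ Nat.card P := Nat.card_mono (Set.toFinite _) hle
  have hC : 0 < Nat.card (cm V q r) := Nat.card_pos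
  have h5 : Nat.card P ≤ Nat.card (pl V q r) :=
    (Nat.le_of_mul_le_mul_left (h3.trans h2) hC).trans h1
  obtain rfl := AddSubgroup.eq_of_le_of_card_ge hle h5
  refine ⟨le_antisymm (Nat.le_of_mul_le_mul_left (h3.trans h2) hC) h1, ?_, hdis, hP⟩
  refine le_antisymm h3 (h2.trans ?_)
  exact Nat.mul_le_mul_left _ h1

theorem plane_decomp (hext : Ext H V) (hV : OddV V) {q r : H} (hq : IsTop V q) (hr : IsTop V r)
    (hne : q ≠ r) (v : V) : ∃ a ∈ cm V q r, ∃ b ∈ pl V q r, a + b = v :=
  decomp_of_card (plane_basic hext hV hq hr hne).2.2.1 (plane_basic hext hV hq hr hne).2.1.ge v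

theorem pl_eq_of_le (hext : Ext H V) (hV : OddV V) {q r a b : H} (hq : IsTop V q)
    (hr : IsTop V r) (hne : q ≠ r) (ha : IsTop V a) (hb : IsTop V b) (hab : a ≠ b)
    (h1 : movV (V := V) a ≤ pl V q r) (h2 : movV (V := V) b ≤ pl V q r) :
    pl V a b = pl V q r := by
  refine AddSubgroup.eq_of_le_of_card_ge (sup_le h1 h2) ?_
  rw [(plane_basic hext hV hq hr hne).1, (plane_basic hext hV ha hb hab).1, hq.card_mov_eq ha]

/-- Commuting reflections fix each other's commutator space. -/
theorem fix_of_commute (hext : Ext H V) (hV : OddV V) {q r : H} (hq : IsTop V q)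
    (hr : IsTop V r) (hne : q ≠ r) (hc : Commute q r) {d : V} (hd : d ∈ movV r) :
    q • d = d := by
  obtain ⟨f, w, -, hf, hwr, hwq, hfw⟩ :=
    exists_decomp hV (hq.mul_self hext) hd (smul_mem_movV_of_commute hc hd)
  have hw : w = 0 := by
    by_contra h0
    exact hne (hq.eq_of_mov hext hr h0 hwq hwr)
  rw [hw, add_zero] at hfw
  rw [← hfw, hf]

/-- Commuting conjugate reflections lie in the plane of a reflection moving one to the other. -/
theorem exists_diag (hext : Ext H V) (hV : OddV V) {q r g : H} (hq : IsTop V q)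
    (hr : g * q * g⁻¹ = r) (hne : q ≠ r) (hcomm : Commute q r) :
    ∃ t : H, IsTop V t ∧ ¬ Commute q t ∧ movV (V := V) t ≤ pl V q r := by
  have hr' : IsTop V r := hr ▸ hq.conj g
  obtain ⟨c, hc, hc0⟩ := exists_ne_zero_mov (V := V) hq
  have he : g • c ∈ movV r := hr ▸ movV_conj hc
  have he0 : g • c ≠ 0 := fun e => hc0 (by simpa using congrArg (g⁻¹ • ·) e)
  have hq2 := hq.mul_self hext
  have hr2 := hr'.mul_self hext
  obtain ⟨h, hh⟩ := hext.transl (c + g • c)
  have h1 := hh (-(g • c)) ⟨(g * q)⁻¹, by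
    rw [inv_smul_eq_iff, mul_smul]
    rw [show -(g • c) + (c + g • c) = c by abel, smul_movV hq2 hc, smul_neg]⟩
  have he' : h • g • c = -c := by
    rw [smul_neg] at h1
    rw [← neg_neg (h • g • c), h1]
    abel
  have hqrc : (q * r) • c = -c := by
    rw [mul_smul, fix_of_commute hext hV hr' hq (Ne.symm hne) hcomm.symm hc, smul_movV hq2 hc]
  have hqre : (q * r) • g • c = -(g • c) := by
    rw [mul_smul, smul_movV hr2 he, smul_neg, fix_of_commute hext hV hq hr' hne hcomm he]
  set u0 := -hlf hV (c + g • c) with hu0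
  have hu0' : u0 + (c + g • c) = hlf hV (c + g • c) := by
    rw [hu0]; nth_rewrite 2 [← hlf_add hV (c + g • c)]; abel
  have hflip : ∀ f ∈ cm V q r, (q * r) • (u0 + f) = (u0 + f) + (c + g • c) := by
    intro f hf
    obtain ⟨hf1, hf2⟩ := AddSubgroup.mem_inf.1 hf
    rw [add_right_comm u0 f, hu0', smul_add, hu0, smul_neg, smul_hlf, smul_add, hqrc, hqre,
      mul_smul, mem_fixV.1 hf2, mem_fixV.1 hf1]
    unfold hlf
    rw [← neg_add, smul_neg, neg_neg]
  have h2 := hh u0 ⟨q * r, by simpa using hflip 0 (zero_mem _)⟩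
  have hC : ∀ f ∈ cm V q r, h • f = f := by
    intro f hf
    have h3 := hh (u0 + f) ⟨q * r, hflip f hf⟩
    rw [smul_add, h2] at h3
    have h3' : u0 + (c + g • c) + h • f = u0 + (c + g • c) + f := by rw [h3]; abel
    exact add_left_cancel h3'
  have hc' : h • c = -(g • c) := by
    rw [hu0'] at h2
    rw [hu0, smul_neg] at h2
    have h4 : h • (c + g • c) = -(c + g • c) := by
      have h4 : h • hlf hV (c + g • c) = -hlf hV (c + g • c) := neg_eq_iff_eq_neg.1 h2
      rw [← hlf_add hV (c + g • c), smul_add, h4, ← neg_add]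
    rw [smul_add, he', neg_add] at h4
    exact add_right_cancel (h4.trans (add_comm _ _))
  have hne' : ∀ a : H, a • c = -(g • c) → a ≠ 1 := by
    intro a ha e
    rw [e, one_smul] at ha
    exact hne (hq.eq_of_mov hext hr' hc0 hc (ha.symm ▸ neg_mem he))
  have hqr' : h * q * h⁻¹ = r := by
    refine (hq.conj h).eq_of_mov hext hr' (neg_ne_zero.2 he0) ?_ (neg_mem he)
    rw [← hc']; exact movV_conj hc
  have hrq' : h * r * h⁻¹ = q := by
    refine (hr'.conj h).eq_of_mov hext hq (neg_ne_zero.2 hc0) ?_ (neg_mem hc)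
    rw [← he']; exact movV_conj he
  have hh2 : h * h = 1 := by
    refine eq_one_of_forall (V := V) fun v => ?_
    obtain ⟨a, ha, b, hb, rfl⟩ := plane_decomp hext hV hq hr' hne v
    obtain ⟨w, hw, w', hw', rfl⟩ := AddSubgroup.mem_sup.1 hb
    have hcc : (h * h) • c = c := by rw [mul_smul, hc', smul_neg, he', neg_neg]
    have hee : (h * h) • g • c = g • c := by rw [mul_smul, he', smul_neg, hc', neg_neg]
    rw [smul_add, smul_add, hq.fix_mov_of_fix hext hV.elem hc0 hc hcc hw,
      hr'.fix_mov_of_fix hext hV.elem he0 he hee hw', mul_smul, hC a ha, hC a ha]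
  have hW : Nat.card (movV (V := V) h) ≤ Nat.card (movV (V := V) q) := by
    have hmap : ∀ w : movV (V := V) q, (w : V) + h • (w : V) ∈ fixV h := fun w => by
      rw [mem_fixV, smul_add, ← mul_smul, hh2, one_smul, add_comm]
    let A : AddSubgroup V :=
      ((AddMonoidHom.id V + DistribSMul.toAddMonoidHom V h).comp (movV q).subtype).range
    have hA : ∀ v ∈ A, ∃ w : movV (V := V) q, (w : V) + h • (w : V) = v := by
      rintro _ ⟨w, rfl⟩; exact ⟨w, rfl⟩
    have hAinj : Nat.card A = Nat.card (movV (V := V) q) := by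
      refine (Nat.card_congr (AddMonoidHom.ofInjective ?_).toEquiv).symm
      rw [injective_iff_map_eq_zero]
      intro w hw
      have hw' : h • (w : V) = -(w : V) := eq_neg_of_add_eq_zero_right hw
      refine Subtype.ext ?_
      by_contra hw0
      refine hne (hq.eq_of_mov hext hr' hw0 w.2 ?_)
      have h5 : h • (w : V) ∈ movV r := hqr' ▸ movV_conj w.2
      rw [hw'] at h5
      simpa using h5
    have hle : Nat.card A * Nat.card (cm V q r) ≤ Nat.card (fixV (V := V) h) := by
      refine card_mul_le_sub ?_ (fun f hf => mem_fixV.2 (hC f hf)) ?_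
      · intro v hv
        obtain ⟨w, rfl⟩ := hA v hv
        exact hmap w
      · intro v hvA hvC
        obtain ⟨w, rfl⟩ := hA v hvA
        refine (plane_basic hext hV hq hr' hne).2.2.1 _ hvC ?_
        exact add_mem (AddSubgroup.mem_sup_left w.2)
          (((plane_basic hext hV hq hr' hne).2.2.2 h hC).2 _ (AddSubgroup.mem_sup_left w.2))
    rw [hAinj] at hle
    obtain ⟨hcard, hsplit, -, -⟩ := plane_basic hext hV hq hr' hne
    rw [hcard] at hsplit
    have e1 := card_fix_mul_mov (V := V) h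
    have hpos : 0 < Nat.card (movV (V := V) q) * Nat.card (cm V q r) :=
      Nat.mul_pos Nat.card_pos Nat.card_pos
    by_contra hlt
    push Not at hlt
    nlinarith
  have hhT : IsTop V h := hq.of_card (hne' h hc') hW
  refine ⟨h, hhT, fun hcm => hne ?_, ((plane_basic hext hV hq hr' hne).2.2.2 h hC).1⟩
  rw [← hqr', hcm.symm.eq, mul_inv_cancel_right]

end Cfsg.Agent.BinAff
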