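/-
Binary affine groups in odd characteristic: the plane of two non-commuting reflections carries
the element `-1`, so it is covered by commutator spaces of reflections.
-/
import Cfsg.Agent.Lib.Fus.BinAff.OddBasic

set_option autoImplicit false
set_option linter.unusedSectionVars false

namespace Cfsg.Agent.BinAff

variable {H V : Type*} [Group H] [AddCommGroup V] [DistribMulAction H V] [FaithfulSMul H V]
  [Finite V] [Finite H]

/-- The pointwise stabiliser of a subgroup. -/
def pwStab (H : Type*) [Group H] {V : Type*} [AddCommGroup V] [DistribMulAction H V]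
    (S : AddSubgroup V) : Subgroup H where
  carrier := {h | ∀ s ∈ S, h • s = s}
  one_mem' := fun s _ => one_smul H s
  mul_mem' := fun ha hb s hs => by rw [mul_smul, hb s hs, ha s hs]
  inv_mem' := fun ha s hs => inv_smul_eq_iff.2 (ha s hs).symm

theorem mem_pwStab {S : AddSubgroup V} {h : H} : h ∈ pwStab H S ↔ ∀ s ∈ S, h • s = s := Iff.rfl

theorem left_mem_pw (q r : H) : q ∈ pwStab H (cm V q r) := fun _ hs =>
  mem_fixV.1 (AddSubgroup.mem_inf.1 hs).1

theorem right_mem_pw (q r : H) : r ∈ pwStab H (cm V q r) := fun _ hs =>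
  mem_fixV.1 (AddSubgroup.mem_inf.1 hs).2

/-- An element of the plane group centralising `q` and fixing `[V,q]` is trivial or `-1` on the
plane times `q`. -/
theorem centralizer_cases (hext : Ext H V) (hV : OddV V) {q r : H} (hq : IsTop V q)
    (hr : IsTop V r) (hne : q ≠ r) {x : H} (hx : x ∈ pwStab H (cm V q r)) (hcomm : Commute x q)
    {c : V} (hc0 : c ≠ 0) (hc : c ∈ movV q) (hxc : x • c = c) :
    x = 1 ∨ ∀ v ∈ pl V q r, (x * q) • v = -v := by
  by_cases h1 : x = 1
  · exact Or.inl h1
  obtain ⟨hcard, hsplit, hdis, hinv⟩ := plane_basic hext hV hq hr hne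
  have hW : ∀ w ∈ movV q, x • w = w := fun w hw => hq.fix_mov_of_fix hext hV.elem hc0 hc hxc hw
  have hle : cm V q r ⊔ movV q ≤ fixV x := sup_le (fun s hs => mem_fixV.2 (hx s hs))
    fun w hw => mem_fixV.2 (hW w hw)
  have hbig : Nat.card (fixV (V := V) q) ≤ Nat.card (cm V q r ⊔ movV q : AddSubgroup V) := by
    refine le_trans ?_ (card_mul_le_sub (A := cm V q r) (B := movV q) le_sup_left le_sup_right
      fun v h1 h2 => hdis v h1 (AddSubgroup.mem_sup_left h2))
    have e := card_fix_mul_mov (V := V) q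
    rw [hcard] at hsplit
    have : 0 < Nat.card (movV (V := V) q) := Nat.card_pos
    nlinarith
  have hfix : fixV x = cm V q r ⊔ movV q :=
    (AddSubgroup.eq_of_le_of_card_ge hle (le_trans (hq.2 x h1) hbig)).symm
  have hxT : IsTop V x := ⟨h1, fun h hh =>
    (hq.2 h hh).trans (hbig.trans (Nat.card_mono (Set.toFinite _) hle))⟩
  refine Or.inr fun v hv => ?_
  obtain ⟨f, w, hfP, hqf, -, hw, rfl⟩ :=
    exists_decomp hV (hq.mul_self hext) hv ((hinv q (left_mem_pw q r)).2 v hv)
  have hf : x • f = -f := by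
    have hxf : x • f ∈ pl V q r := (hinv x hx).2 f hfP
    have hg : f + x • f ∈ fixV x := by
      rw [mem_fixV, smul_add, ← mul_smul, hxT.mul_self hext, one_smul, add_comm]
    rw [hfix] at hg
    obtain ⟨a, ha, b, hb, hab⟩ := AddSubgroup.mem_sup.1 hg
    have ha0 : a = 0 := hdis a ha (by
      have : f + x • f - b ∈ pl V q r :=
        sub_mem (add_mem hfP hxf) (AddSubgroup.mem_sup_left hb)
      rwa [← hab, add_sub_cancel_right] at this)
    rw [ha0, zero_add] at hab
    have hbF : q • b = b := by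
      rw [hab, smul_add, hqf, ← mul_smul, ← hcomm.eq, mul_smul, hqf]
    rw [eq_zero_of_fix_mov hV (hq.mul_self hext) hbF hb] at hab
    exact eq_neg_of_add_eq_zero_right hab.symm
  rw [mul_smul, smul_add, hqf, smul_movV (hq.mul_self hext) hw, smul_add, smul_neg, hW w hw, hf,
    neg_add]

/-- The plane of non-commuting reflections carries `-1`. -/
theorem exists_neg (hext : Ext H V) (hV : OddV V) {q r : H} (hq : IsTop V q) (hr : IsTop V r)
    (hnc : ¬ Commute q r) :
    ∃ z : H, z ∈ pwStab H (cm V q r) ∧ ∀ v ∈ pl V q r, z • v = -v := by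
  classical
  have hne : q ≠ r := fun e => hnc (e ▸ Commute.refl q)
  obtain ⟨hcard, hsplit, hdis, hinv⟩ := plane_basic hext hV hq hr hne
  set K := pwStab H (cm V q r) with hK
  have hqK : q ∈ K := left_mem_pw q r
  have hrK : r ∈ K := right_mem_pw q r
  have hq2 := hq.mul_self hext
  obtain ⟨c, hc, hc0⟩ := exists_ne_zero_mov (V := V) hq
  set Q := Nat.card (movV (V := V) q) with hQ
  by_contra hno
  push Not at hno
  have hcent : ∀ x ∈ K, Commute x q → x = 1 ∨ x = q := by
    intro x hx hcomm
    rcases commute_pm hext hV.elem hq hcomm hc with h | h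
    · rcases centralizer_cases hext hV hq hr hne hx hcomm hc0 hc h with h' | h'
      · exact Or.inl h'
      · obtain ⟨v, hv, hv'⟩ := hno (x * q) (mul_mem hx hqK)
        exact absurd (h' v hv) hv'
    · have h2 : (x * q) • c = c := by rw [mul_smul, smul_movV hq2 hc, smul_neg, h, neg_neg]
      rcases centralizer_cases hext hV hq hr hne (mul_mem hx hqK)
        (hcomm.mul_left (Commute.refl q)) hc0 hc h2 with h' | h'
      · exact Or.inr (by rw [← one_mul q, ← h', mul_assoc, hq2, mul_one])
      · obtain ⟨v, hv, hv'⟩ := hno x hx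
        have := h' v hv
        rw [mul_assoc, hq2, mul_one] at this
        exact absurd this hv'
  -- so the Sylow 2-subgroups of `K` have order 2
  have : Fact (Nat.Prime 2) := ⟨Nat.prime_two⟩
  set qK : K := ⟨q, hqK⟩ with hqKdef
  have hqK2 : qK * qK = 1 := Subtype.ext hq2
  have hqKne : qK ≠ 1 := fun e => hq.1 (congrArg Subtype.val e)
  have hoq : orderOf qK = 2 := orderOf_eq_prime (by rw [pow_two]; exact hqK2) hqKne
  obtain ⟨S, hS⟩ := (IsPGroup.of_card (p := 2) (n := 1)
    (show Nat.card (Subgroup.zpowers qK) = 2 ^ 1 by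
      rw [Nat.card_zpowers, hoq, pow_one])).exists_le_sylow
  have hqS : qK ∈ (S : Subgroup K) := hS (Subgroup.mem_zpowers qK)
  have : Nontrivial (S : Subgroup K) := ⟨⟨⟨qK, hqS⟩, 1, fun e => hqKne (congrArg Subtype.val e)⟩⟩
  have := S.2.center_nontrivial
  obtain ⟨⟨w, hwZ⟩, hw1⟩ := exists_ne (1 : Subgroup.center (S : Subgroup K))
  have hwq : Commute ((w : K) : H) q :=
    congrArg (fun a : (S : Subgroup K) => ((a : K) : H))
      (Subgroup.mem_center_iff.1 hwZ ⟨qK, hqS⟩).symm
  have hwq' : ((w : K) : H) = q := (hcent _ (w : K).2 hwq).resolve_left fun e =>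
    hw1 (Subtype.ext (Subtype.ext (Subtype.ext e)))
  have hSle : ∀ s : K, s ∈ (S : Subgroup K) → (s : H) = 1 ∨ (s : H) = q := by
    intro s hs
    refine hcent _ s.2 ?_
    have h := congrArg (fun a : (S : Subgroup K) => ((a : K) : H))
      (Subgroup.mem_center_iff.1 hwZ ⟨s, hs⟩)
    simp only [Subgroup.coe_mul, hwq'] at h
    exact h
  have hScard : Nat.card (S : Subgroup K) = 2 := by
    have : (S : Subgroup K) = Subgroup.zpowers qK := by
      refine le_antisymm (fun s hs => ?_) hS
      rcases hSle s hs with h | h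
      · rw [show s = 1 from Subtype.ext h]; exact one_mem _
      · rw [show s = qK from Subtype.ext h]; exact Subgroup.mem_zpowers qK
    rw [this, Nat.card_zpowers, hoq]
  -- every involution of `K` is a conjugate of `q`
  have hconj : ∀ a : K, a ≠ 1 → a * a = 1 → ∃ k : K, k * qK * k⁻¹ = a := by
    intro a ha ha2
    have hoa : orderOf a = 2 := orderOf_eq_prime (by rw [pow_two]; exact ha2) ha
    obtain ⟨T, hT⟩ := (IsPGroup.of_card (p := 2) (n := 1)
      (show Nat.card (Subgroup.zpowers a) = 2 ^ 1 by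
        rw [Nat.card_zpowers, hoa, pow_one])).exists_le_sylow
    obtain ⟨k, hk⟩ := MulAction.exists_smul_eq K S T
    refine ⟨k, ?_⟩
    have haT : a ∈ (T : Subgroup K) := hT (Subgroup.mem_zpowers a)
    rw [← hk, Sylow.coe_subgroup_smul] at haT
    obtain ⟨s, hs, hsa⟩ := (Set.mem_smul_set).1 haT
    rcases hSle s hs with h | h
    · exfalso
      rw [show s = 1 from Subtype.ext h, smul_one] at hsa
      exact ha hsa.symm
    · rw [show s = qK from Subtype.ext h] at hsa
      simpa [MulAut.smul_def] using hsa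
  -- non-zero vectors of the plane are fixed by these
  let R : Set K := Set.range fun k : K => k * qK * k⁻¹
  have hRtop : ∀ a ∈ R, IsTop V (a : H) := by rintro _ ⟨k, rfl⟩; exact hq.conj (k : H)
  have hcover : ∀ v ∈ pl V q r, v ≠ 0 → ∃ a : R, ((a : K) : H) • v = v := by
    intro v hv hv0
    have hex : ∃ a ∈ {a : K | a ≠ 1 ∧ (a : H) • v = v}, True := by
      by_contra hnone
      push Not at hnone
      have hfree : ∀ a : K, (a : H) • v = v → a = 1 := fun a ha => by
        by_contra h
        exact hnone a ⟨h, ha⟩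
      have hsq : ∀ a : K, a * a = 1 := by
        intro a
        obtain ⟨x, hxS, hx1, hx2⟩ := hext.swap (h0 := (a : H)) (cm V q r : Set V) (b := v)
          (fun s hs => a.2 s hs) rfl
        have hxa : x = (a : H) := congrArg Subtype.val (inv_mul_eq_one.1
          (hfree (a⁻¹ * ⟨x, hxS⟩) (by
            rw [Subgroup.coe_mul, mul_smul, hx1, Subgroup.coe_inv, inv_smul_smul]))).symm
        rw [hxa] at hx2
        exact hfree _ (by rw [Subgroup.coe_mul, mul_smul, hx2])
      refine hnc ?_
      have h1 := congrArg Subtype.val (hsq (qK * ⟨r, hrK⟩))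
      calc q * r = (q * r)⁻¹ := (inv_eq_of_mul_eq_one_right h1).symm
        _ = r * q := by
          rw [mul_inv_rev, inv_eq_of_mul_eq_one_right hq2,
            inv_eq_of_mul_eq_one_right (hr.mul_self hext)]
    obtain ⟨a0, ha0, -⟩ := hex
    obtain ⟨a, ⟨ha, hav⟩, hmax⟩ := Set.exists_max_image {a : K | a ≠ 1 ∧ (a : H) • v = v}
      (fun a => Nat.card (fixV (V := V) (a : H))) (Set.toFinite _) ⟨a0, ha0⟩
    have ha2 : a * a = 1 := Subtype.ext <| mul_self_eq_one_of_max hext
      (insert v (cm V q r : Set V))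
      (by
        rintro s (rfl | hs)
        · exact hav
        · exact a.2 s hs)
      (fun h hh hF => by
        by_cases h1 : h = 1
        · exact Or.inl h1
        refine Or.inr fun w hw => ?_
        have heq : fixV (V := V) (a : H) = fixV h :=
          AddSubgroup.eq_of_le_of_card_ge (fun u hu => mem_fixV.2 (hF u hu))
            (hmax ⟨h, fun s hs => hh s (Set.mem_insert_of_mem _ hs)⟩
              ⟨fun e => h1 (congrArg Subtype.val e), hh v (Set.mem_insert _ _)⟩)
        exact mem_fixV.1 (heq ▸ mem_fixV.2 hw))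
    exact ⟨⟨a, hconj a ha ha2⟩, hav⟩
  have hFcard : ∀ a : R,
      Nat.card (fixV (V := V) ((a : K) : H) ⊓ pl V q r : AddSubgroup V) = Q := by
    intro a
    have ha := hRtop a a.2
    have e1 := card_fix_mul_mov (V := V) ((a : K) : H)
    rw [hq.card_mov_eq ha] at e1
    have hC : cm V q r ≤ fixV ((a : K) : H) := fun s hs => mem_fixV.2 ((a : K).2 s hs)
    have h1 : Nat.card (cm V q r) *
        Nat.card (fixV (V := V) ((a : K) : H) ⊓ pl V q r : AddSubgroup V) ≤
        Nat.card (fixV (V := V) ((a : K) : H)) :=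
      card_mul_le_sub hC inf_le_left fun v h1 h2 => hdis v h1 (AddSubgroup.mem_inf.1 h2).2
    have h2 : Nat.card (fixV (V := V) ((a : K) : H)) ≤ Nat.card (cm V q r) *
        Nat.card (fixV (V := V) ((a : K) : H) ⊓ pl V q r : AddSubgroup V) := by
      rw [← Nat.card_prod]
      refine Nat.card_le_card_of_surjective
        (fun x : cm V q r × (fixV ((a : K) : H) ⊓ pl V q r : AddSubgroup V) =>
          (⟨x.1.1 + x.2.1, add_mem (hC x.1.2) (AddSubgroup.mem_inf.1 x.2.2).1⟩ :
            fixV (V := V) ((a : K) : H))) ?_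
      rintro ⟨v, hv⟩
      obtain ⟨s, hs, b, hb, rfl⟩ := plane_decomp hext hV hq hr hne v
      exact ⟨⟨⟨s, hs⟩, ⟨b, AddSubgroup.mem_inf.2
        ⟨by simpa using sub_mem hv (hC hs), hb⟩⟩⟩, rfl⟩
    rw [hcard] at hsplit
    rw [le_antisymm h2 h1, ← hsplit, pow_two] at e1
    have hpos : 0 < Q := Nat.card_pos
    have hpos' : 0 < Nat.card (cm V q r) := Nat.card_pos
    nlinarith
  have hdisj : ∀ a b : R, ∀ v : V, v ≠ 0 →
      v ∈ (fixV ((a : K) : H) ⊓ pl V q r : AddSubgroup V) →
      v ∈ (fixV ((b : K) : H) ⊓ pl V q r : AddSubgroup V) → a = b := by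
    intro a b v hv h1 h2
    by_contra hab
    have ha := hRtop a a.2
    have hb := hRtop b b.2
    have hab' : ((a : K) : H) ≠ ((b : K) : H) := fun e => hab (Subtype.ext (Subtype.ext e))
    have hple := pl_eq_of_le hext hV hq hr hne ha hb hab' (hinv _ (a : K).2).1 (hinv _ (b : K).2).1
    refine hv ((plane_basic hext hV ha hb hab').2.2.1 v ?_ (hple ▸ (AddSubgroup.mem_inf.1 h1).2))
    exact AddSubgroup.mem_inf.2 ⟨(AddSubgroup.mem_inf.1 h1).1, (AddSubgroup.mem_inf.1 h2).1⟩
  have hR : Nat.card R = Q + 1 := by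
    have hcount := card_mul_of_partition (pl V q r)
      (fun a : R => fixV (V := V) ((a : K) : H) ⊓ pl V q r) hFcard (fun _ => inf_le_right)
      (fun v hv hv0 => by
        obtain ⟨a, ha⟩ := hcover v hv hv0
        exact ⟨a, AddSubgroup.mem_inf.2 ⟨mem_fixV.2 ha, hv⟩⟩) hdisj
    rw [hcard] at hcount
    have h3 : (Q + 1) * (Q - 1) = Q ^ 2 - 1 := by rw [← Nat.sq_sub_sq]
    have : Nontrivial (movV (V := V) q) :=
      ⟨⟨⟨c, hc⟩, 0, fun e => hc0 (congrArg Subtype.val e)⟩⟩
    have hQ1 : 1 < Q := Finite.one_lt_card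
    exact Nat.eq_of_mul_eq_mul_right (by omega) (hcount.trans h3.symm)
  -- the class of `q` has even length, so 4 divides `|K|`
  have hRorb : R = MulAction.orbit (ConjAct K) qK := by
    ext a
    constructor
    · rintro ⟨k, rfl⟩; exact ⟨ConjAct.toConjAct k, ConjAct.toConjAct_smul k qK⟩
    · rintro ⟨k, rfl⟩; exact ⟨ConjAct.ofConjAct k, (ConjAct.smul_def k qK).symm⟩
  have hindex : (MulAction.stabilizer (ConjAct K) qK).index = Nat.card R := by
    rw [MulAction.index_stabilizer, hRorb, Nat.card_coe_set_eq]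
  have h2 : 2 ∣ Nat.card (MulAction.stabilizer (ConjAct K) qK) := by
    have h : ConjAct.toConjAct qK ∈ MulAction.stabilizer (ConjAct K) qK := by
      rw [MulAction.mem_stabilizer_iff, ConjAct.toConjAct_smul, mul_inv_cancel_right]
    have ho : orderOf (⟨ConjAct.toConjAct qK, h⟩ : MulAction.stabilizer (ConjAct K) qK) = 2 := by
      rw [← Subgroup.orderOf_coe]
      exact (MulEquiv.orderOf_eq (ConjAct.toConjAct (G := K)) qK).trans hoq
    exact ho ▸ orderOf_dvd_natCard _
  have hQodd : Odd Q := by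
    obtain ⟨hp, hp2, hpv⟩ := hV.choose_spec
    by_contra hev
    rw [Nat.not_odd_iff_even, even_iff_two_dvd] at hev
    obtain ⟨w, hw⟩ := exists_prime_addOrderOf_dvd_card' (G := movV (V := V) q) 2 hev
    have hww : (w : V) + w = 0 := by
      have := addOrderOf_nsmul_eq_zero w
      rw [hw] at this
      rw [← two_nsmul]
      exact congrArg Subtype.val this
    have : w = 0 := Subtype.ext (hV.two_cancel hww)
    simp [this] at hw
  have h4 : 2 ^ 2 ∣ Nat.card K := by
    have hKc : Nat.card (ConjAct K) = Nat.card K :=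
      Nat.card_congr (ConjAct.ofConjAct (G := K)).toEquiv
    rw [← hKc, ← Subgroup.index_mul_card (MulAction.stabilizer (ConjAct K) qK), hindex, hR]
    obtain ⟨i, hi⟩ := hQodd
    obtain ⟨j, hj⟩ := h2
    exact ⟨(i + 1) * j, by rw [hj, hi]; ring⟩
  have h5 := S.card_eq_multiplicity
  rw [hScard] at h5
  have h6 := (Nat.Prime.pow_dvd_iff_le_factorization Nat.prime_two Nat.card_pos.ne').1 h4
  have h7 : (Nat.card K).factorization 2 = 1 := Nat.pow_right_injective le_rfl
    (h5.symm.trans (pow_one 2).symm)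
  omega

/-- Every non-zero vector of such a plane lies in the commutator space of a reflection in it. -/
theorem plane_cover (hext : Ext H V) (hV : OddV V) {q r : H} (hq : IsTop V q) (hr : IsTop V r)
    (hnc : ¬ Commute q r) {v : V} (hv : v ∈ pl V q r) (hv0 : v ≠ 0) :
    ∃ t : H, IsTop V t ∧ t ∈ pwStab H (cm V q r) ∧ v ∈ movV t := by
  classical
  have hne : q ≠ r := fun e => hnc (e ▸ Commute.refl q)
  obtain ⟨hcard, hsplit, hdis, hinv⟩ := plane_basic hext hV hq hr hne
  obtain ⟨z, hzK, hz⟩ := exists_neg hext hV hq hr hnc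
  set K := pwStab H (cm V q r)
  have hex : ∃ a : H, a ∈ K ∧ a ≠ 1 ∧ a • v = v := by
    by_contra hnone
    push Not at hnone
    have hfree : ∀ a ∈ K, a • v = v → a = 1 := fun a ha h => by
      by_contra h1
      exact hnone a ha h1 h
    have hsq : ∀ a ∈ K, a * a = 1 := by
      intro a ha
      obtain ⟨x, hxS, hx1, hx2⟩ := hext.swap (h0 := a) (cm V q r : Set V) (b := v)
        (fun s hs => ha s hs) rfl
      have hxa : x = a := (inv_mul_eq_one.1
        (hfree (a⁻¹ * x) (mul_mem (inv_mem ha) hxS)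
          (by rw [mul_smul, hx1, inv_smul_smul]))).symm
      rw [hxa] at hx2
      exact hfree _ (mul_mem ha ha) (by rw [mul_smul, hx2])
    refine hnc ?_
    calc q * r = (q * r)⁻¹ := (inv_eq_of_mul_eq_one_right
          (hsq _ (mul_mem (left_mem_pw q r) (right_mem_pw q r)))).symm
      _ = r * q := by
        rw [mul_inv_rev, inv_eq_of_mul_eq_one_right (hq.mul_self hext),
          inv_eq_of_mul_eq_one_right (hr.mul_self hext)]
  obtain ⟨a0, ha0⟩ := hex
  obtain ⟨a, ⟨haK, ha1, hav⟩, hmax⟩ := Set.exists_max_image {a : H | a ∈ K ∧ a ≠ 1 ∧ a • v = v}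
    (fun a => Nat.card (fixV (V := V) a)) (Set.toFinite _) ⟨a0, ha0⟩
  have ha2 : a * a = 1 := mul_self_eq_one_of_max hext (insert v (cm V q r : Set V))
    (by
      rintro s (rfl | hs)
      · exact hav
      · exact haK s hs)
    (fun h hh hF => by
      by_cases h1 : h = 1
      · exact Or.inl h1
      refine Or.inr fun w hw => ?_
      have heq : fixV (V := V) a = fixV h :=
        AddSubgroup.eq_of_le_of_card_ge (fun u hu => mem_fixV.2 (hF u hu))
          (hmax h ⟨fun s hs => hh s (Set.mem_insert_of_mem _ hs), h1, hh v (Set.mem_insert _ _)⟩)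
      exact mem_fixV.1 (heq ▸ mem_fixV.2 hw))
  -- both `a` and `a z` move at most `Q` vectors
  have haP := (hinv a haK).1
  have hazK : a * z ∈ K := mul_mem haK hzK
  have hazv : (a * z) • v = -v := by rw [mul_smul, hz v hv, smul_neg, hav]
  have hz1 : a * z ≠ 1 := by
    intro e
    rw [e, one_smul] at hazv
    exact hv0 (hV.two_cancel (by nth_rewrite 1 [hazv]; exact neg_add_cancel v))
  -- `[V,a]` and the fixed vectors of `a` in the plane
  have hWa : ∀ w ∈ movV (V := V) a, (a * z) • w = w := fun w hw => by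
    rw [mul_smul, hz w (haP hw), smul_neg, smul_movV ha2 hw, neg_neg]
  have hFP : ∀ b ∈ pl V q r, a • b = b → (a * z) • b = -b := fun b hb h => by
    rw [mul_smul, hz b hb, smul_neg, h]
  have hCaz : ∀ s ∈ cm V q r, (a * z) • s = s := hazK
  have h1 : Nat.card (movV (V := V) a) ≤ Nat.card (movV (V := V) q) := by
    have hb : Nat.card (cm V q r) * Nat.card (movV (V := V) a) ≤
        Nat.card (fixV (V := V) (a * z)) :=
      card_mul_le_sub (fun s hs => mem_fixV.2 (hCaz s hs)) (fun w hw => mem_fixV.2 (hWa w hw))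
        fun s h1 h2 => hdis s h1 (haP h2)
    have e1 := hq.2 _ hz1
    have e2 := card_fix_mul_mov (V := V) q
    rw [hcard] at hsplit
    have hpos : 0 < Nat.card (movV (V := V) q) * Nat.card (cm V q r) :=
      Nat.mul_pos Nat.card_pos Nat.card_pos
    by_contra hlt
    push Not at hlt
    nlinarith
  have haT : IsTop V a := hq.of_card ha1 h1
  refine ⟨a * z, hq.of_card hz1 ?_, hazK, mem_movV_of_neg hV hazv⟩
  have hle : fixV (V := V) (a * z) = cm V q r ⊔ movV a := by
    refine (AddSubgroup.eq_of_le_of_card_ge (sup_le (fun s hs => mem_fixV.2 (hCaz s hs))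
      fun w hw => mem_fixV.2 (hWa w hw)) ?_).symm
    refine (hq.2 _ hz1).trans (le_trans ?_ (card_mul_le_sub (A := cm V q r) (B := movV a)
      le_sup_left le_sup_right fun s h1 h2 => hdis s h1 (haP h2)))
    rw [hq.card_mov_eq haT]
    rw [hcard] at hsplit
    have e2 := card_fix_mul_mov (V := V) q
    have hpos : 0 < Nat.card (movV (V := V) q) := Nat.card_pos
    nlinarith
  have hb : Nat.card (cm V q r) * Nat.card (movV (V := V) a) ≤
      Nat.card (fixV (V := V) (a * z)) :=
    hle ▸ card_mul_le_sub le_sup_left le_sup_right fun s h1 h2 => hdis s h1 (haP h2)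
  rw [hq.card_mov_eq haT] at hb
  have e1 := card_fix_mul_mov (V := V) (a * z)
  rw [hcard] at hsplit
  have hpos : 0 < Nat.card (cm V q r) * Nat.card (movV (V := V) q) :=
    Nat.mul_pos Nat.card_pos Nat.card_pos
  by_contra hlt
  push Not at hlt
  nlinarith

end Cfsg.Agent.BinAff
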