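/-
Binary affine groups in odd characteristic: two planes through one commutator space would span
a three-space whose commuting graph is a friendship graph, so `V` is one plane.
-/
import Cfsg.Agent.Lib.Fus.BinAff.Plane

set_option autoImplicit false
set_option linter.unusedSectionVars false

namespace Cfsg.Agent.BinAff

variable {H V : Type*} [Group H] [AddCommGroup V] [DistribMulAction H V] [FaithfulSMul H V]
  [Finite V] [Finite H]

/-- Two commuting reflections spanning a covered plane. -/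
structure Link (V : Type*) [AddCommGroup V] [DistribMulAction H V] (a b : H) : Prop where
  ta : IsTop V a
  tb : IsTop V b
  ne : a ≠ b
  comm : Commute a b
  cov : ∀ v ∈ pl V a b, v ≠ 0 → ∃ t : H, IsTop V t ∧ t ∈ pwStab H (cm V a b) ∧ v ∈ movV t

theorem Link.symm {a b : H} (h : Link V a b) : Link V b a := by
  refine ⟨h.tb, h.ta, h.ne.symm, h.comm.symm, ?_⟩
  have e : pl V b a = pl V a b := sup_comm _ _
  have e' : cm V b a = cm V a b := inf_comm _ _
  rw [e, e']
  exact h.cov

theorem exists_partner (hext : Ext H V) (hV : OddV V) {q t : H} (hq : IsTop V q)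
    (ht : IsTop V t) (hnc : ¬ Commute q t) :
    ∃ b : H, Link V q b ∧ pl V q b = pl V q t := by
  have hne : q ≠ t := fun e => hnc (e ▸ Commute.refl q)
  obtain ⟨hcard, hsplit, hdis, hinv⟩ := plane_basic hext hV hq ht hne
  obtain ⟨z, hzK, hz⟩ := exists_neg hext hV hq ht hnc
  have hq2 := hq.mul_self hext
  have hbK : q * z ∈ pwStab H (cm V q t) := mul_mem (left_mem_pw q t) hzK
  have hb1 : q * z ≠ 1 := by
    intro e
    obtain ⟨c, hc, hc0⟩ := exists_ne_zero_mov (V := V) ht
    have hzq : z = q := by rw [← one_mul z, ← hq2, mul_assoc, e, mul_one]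
    have hcq : c ∈ movV q :=
      mem_movV_of_neg hV (hzq ▸ hz c (AddSubgroup.mem_sup_right hc))
    exact hne (hq.eq_of_mov hext ht hc0 hcq hc)
  have hbT : IsTop V (q * z) := by
    refine ⟨hb1, fun h hh => (hq.2 h hh).trans ?_⟩
    refine le_trans ?_ (card_mul_le_sub (A := cm V q t) (B := movV q)
      (fun s hs => mem_fixV.2 (hbK s hs)) (fun w hw => mem_fixV.2 ?_)
      fun v h1 h2 => hdis v h1 (AddSubgroup.mem_sup_left h2))
    · have e := card_fix_mul_mov (V := V) q
      rw [hcard] at hsplit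
      have : 0 < Nat.card (movV (V := V) q) := Nat.card_pos
      nlinarith
    · rw [mul_smul, hz w (AddSubgroup.mem_sup_left hw), smul_neg, smul_movV hq2 hw, neg_neg]
  have hqb : q ≠ q * z := by
    intro e
    have hz1 : z = 1 := left_eq_mul.1 e
    obtain ⟨c, hc, hc0⟩ := exists_ne_zero_mov (V := V) hq
    have h := hz c (AddSubgroup.mem_sup_left hc)
    rw [hz1, one_smul] at h
    exact hc0 (hV.two_cancel (eq_neg_iff_add_eq_zero.1 h))
  have hzq : z * q = q * z := eq_of_smul_eq_smul fun v : V => by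
    obtain ⟨s, hs, b, hb, rfl⟩ := plane_decomp hext hV hq ht hne v
    have hqs : q • s = s := left_mem_pw q t s hs
    have hzs : z • s = s := hzK s hs
    have hqbP : q • b ∈ pl V q t := (hinv q (left_mem_pw q t)).2 b hb
    rw [mul_smul, mul_smul, smul_add, smul_add, smul_add, smul_add, hqs, hzs, hqs, hz b hb,
      hz _ hqbP, smul_neg]
  have hcomm : Commute q (q * z) := by
    show q * (q * z) = q * z * q
    rw [mul_assoc q z q, hzq]
  have hpl : pl V q (q * z) = pl V q t :=
    pl_eq_of_le hext hV hq ht hne hq hbT hqb le_sup_left (hinv _ hbK).1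
  have hcm : cm V q (q * z) = cm V q t := by
    refine (AddSubgroup.eq_of_le_of_card_ge
      (le_inf inf_le_left fun s hs => mem_fixV.2 (hbK s hs)) ?_).symm
    have h2 := (plane_basic hext hV hq hbT hqb).2.1
    rw [hpl, ← hsplit] at h2
    exact (Nat.eq_of_mul_eq_mul_right Nat.card_pos h2).le
  refine ⟨q * z, ⟨hq, hbT, hqb, hcomm, ?_⟩, hpl⟩
  rw [hpl, hcm]
  intro v hv hv0
  exact plane_cover hext hV hq ht hnc hv hv0

theorem conj_link (hext : Ext H V) (hV : OddV V) {q g : H} (hq : IsTop V q)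
    (hne : g * q * g⁻¹ ≠ q) :
    ∃ b t : H, Link V q b ∧ IsTop V t ∧ ¬ Commute q t ∧ pl V q b = pl V q t ∧
      movV (g * q * g⁻¹) ≤ pl V q b := by
  set r := g * q * g⁻¹ with hr
  have hrT : IsTop V r := hq.conj g
  by_cases hc : Commute q r
  · obtain ⟨t, ht, hnc, hle⟩ := exists_diag hext hV hq hr.symm (Ne.symm hne) hc
    obtain ⟨b, hb, hpl⟩ := exists_partner hext hV hq ht hnc
    have hpl' : pl V q t = pl V q r :=
      pl_eq_of_le hext hV hq hrT (Ne.symm hne) hq ht (fun e => hnc (e ▸ Commute.refl q))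
        le_sup_left hle
    exact ⟨b, t, hb, ht, hnc, hpl, by rw [hpl, hpl']; exact le_sup_right⟩
  · obtain ⟨b, hb, hpl⟩ := exists_partner hext hV hq hrT hc
    exact ⟨b, r, hb, hrT, hc, hpl, by rw [hpl]; exact le_sup_right⟩

/-- There is no triangle of links. -/
theorem no_triangle (hext : Ext H V) (hV : OddV V) {a b c : H} (hab : Link V a b)
    (hac : Link V a c) (hbc : Commute b c) (hne : b ≠ c) : False := by
  classical
  have ha := hab.ta
  have hb := hab.tb
  have hc := hac.tb
  set Q := Nat.card (movV (V := V) a) with hQ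
  have hQof : ∀ t : H, IsTop V t → Nat.card (movV (V := V) t) = Q := fun t ht => ha.card_mov_eq ht
  obtain ⟨c0, hc0, hc00⟩ := exists_ne_zero_mov (V := V) ha
  have : Nontrivial (movV (V := V) a) :=
    ⟨⟨⟨c0, hc0⟩, 0, fun e => hc00 (congrArg Subtype.val e)⟩⟩
  have hQ1 : 1 < Q := Finite.one_lt_card
  have hQ3 : 3 ≤ Q := by
    by_contra h
    have h2 : Q = 2 := by omega
    have ho : addOrderOf (⟨c0, hc0⟩ : movV (V := V) a) ∣ Q := addOrderOf_dvd_natCard _
    rw [h2] at ho
    have := addOrderOf_dvd_iff_nsmul_eq_zero.1 ho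
    rw [two_nsmul] at this
    exact hc00 (hV.two_cancel (congrArg Subtype.val this))
  set U : AddSubgroup V := movV a ⊔ movV b ⊔ movV c with hU
  have hmemU : ∀ v ∈ U, ∃ x ∈ movV a, ∃ y ∈ movV b, ∃ z ∈ movV c, x + y + z = v := by
    intro v hv
    obtain ⟨xy, hxy, z, hz, rfl⟩ := AddSubgroup.mem_sup.1 hv
    obtain ⟨x, hx, y, hy, rfl⟩ := AddSubgroup.mem_sup.1 hxy
    exact ⟨x, hx, y, hy, z, hz, rfl⟩
  have hab_pl : pl V a b ≤ U := le_sup_left
  have hac_pl : pl V a c ≤ U := sup_le (le_sup_left.trans le_sup_left) le_sup_right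
  have hUcard : Nat.card U = Q ^ 3 := by
    have h2 : Nat.card (pl V a b) = Q ^ 2 := (plane_basic hext hV ha hb hab.ne).1
    refine le_antisymm ?_ ?_
    · let f : pl V a b × movV (V := V) c → U := fun x => ⟨x.1.1 + x.2.1,
        add_mem (hab_pl x.1.2) ((le_sup_right : movV c ≤ U) x.2.2)⟩
      have hf : Function.Surjective f := by
        rintro ⟨v, hv⟩
        obtain ⟨p', hp', z, hz, rfl⟩ := AddSubgroup.mem_sup.1 hv
        exact ⟨⟨⟨p', hp'⟩, ⟨z, hz⟩⟩, rfl⟩
      have := Nat.card_le_card_of_surjective f hf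
      rw [Nat.card_prod, h2, hQof c hc] at this
      calc Nat.card U ≤ Q ^ 2 * Q := this
        _ = Q ^ 3 := by ring
    · calc Q ^ 3 = Nat.card (pl V a b) * Nat.card (movV (V := V) c) := by
            rw [h2, hQof c hc]; ring
        _ ≤ Nat.card U := card_mul_le_sub hab_pl le_sup_right fun v hv hvc => by
          obtain ⟨x, hx, y, hy, rfl⟩ := AddSubgroup.mem_sup.1 hv
          have h1 := fix_of_commute hext hV ha hc hac.ne hac.comm hvc
          rw [smul_add, smul_movV (ha.mul_self hext) hx,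
            fix_of_commute hext hV ha hb hab.ne hab.comm hy] at h1
          have hx0 : x = 0 := by
            refine hV.two_cancel ?_
            have := add_right_cancel h1
            exact neg_eq_iff_add_eq_zero.1 this
          rw [hx0, zero_add] at hvc ⊢
          by_contra hy0
          exact hne (hb.eq_of_mov hext hc hy0 hy hvc)
  let ι := {t : H // IsTop V t ∧ movV (V := V) t ≤ U}
  have := Fintype.ofFinite ι
  -- covering
  have hcover : ∀ v ∈ U, v ≠ 0 → ∃ t : ι, v ∈ movV (V := V) (t : H) := by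
    intro v hv hv0
    obtain ⟨x, hx, y, hy, z, hz, rfl⟩ := hmemU v hv
    have hinv := (plane_basic hext hV ha hb hab.ne).2.2.2
    let ι' := {t : H // IsTop V t ∧ t ∈ pwStab H (cm V a b)}
    have := Fintype.ofFinite ι'
    have hN : Nat.card ι' * (Q - 1) = Nat.card (pl V a b) - 1 :=
      card_mul_of_partition (pl V a b) (fun t : ι' => movV (V := V) (t : H))
        (fun t => hQof t t.2.1) (fun t => (hinv _ t.2.2).1)
        (fun w hw hw0 => by
          obtain ⟨t, ht, htle, hwt⟩ := hab.cov w hw hw0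
          exact ⟨⟨t, ht, htle⟩, hwt⟩)
        (fun i j w hw h1 h2 => Subtype.ext (i.2.1.eq_of_mov hext j.2.1 hw h1 h2))
    have hN' : 4 ≤ Nat.card ι' := by
      rw [(plane_basic hext hV ha hb hab.ne).1] at hN
      have h3 : (Q + 1) * (Q - 1) = Q ^ 2 - 1 := by rw [← Nat.sq_sub_sq]
      have := Nat.eq_of_mul_eq_mul_right (by omega) (hN.trans h3.symm)
      omega
    obtain ⟨s, hsa, hsb, hsv⟩ : ∃ s : ι', (s : H) ≠ a ∧ (s : H) ≠ b ∧
        (x + y ≠ 0 → x + y ∉ movV (V := V) (s : H)) := by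
      by_contra hnone
      push Not at hnone
      have hsub : (Finset.univ : Finset ι') ⊆
          ({⟨a, ha, left_mem_pw a b⟩, ⟨b, hb, right_mem_pw a b⟩} : Finset ι') ∪
            Finset.univ.filter (fun t : ι' => x + y ≠ 0 ∧ x + y ∈ movV (V := V) (t : H)) := by
        intro t _
        by_cases h1 : (t : H) = a
        · exact Finset.mem_union_left _ (Finset.mem_insert.2 (Or.inl (Subtype.ext h1)))
        by_cases h2 : (t : H) = b
        · exact Finset.mem_union_left _
            (Finset.mem_insert.2 (Or.inr (Finset.mem_singleton.2 (Subtype.ext h2))))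
        have h3 := hnone t h1 h2
        exact Finset.mem_union_right _ (by simp [h3.1, h3.2])
      have h1 : (Finset.univ.filter
          (fun t : ι' => x + y ≠ 0 ∧ x + y ∈ movV (V := V) (t : H))).card ≤ 1 := by
        rw [Finset.card_le_one]
        intro i hi j hj
        simp only [Finset.mem_filter] at hi hj
        exact Subtype.ext (i.2.1.eq_of_mov hext j.2.1 hi.2.1 hi.2.2 hj.2.2)
      have h2 := (Finset.card_le_card hsub).trans (Finset.card_union_le _ _)
      have h3 : (Finset.univ : Finset ι').card = Nat.card ι' := by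
        rw [Nat.card_eq_fintype_card, Finset.card_univ]
      have h4 := Finset.card_le_two (a := (⟨a, ha, left_mem_pw a b⟩ : ι')) (b := ⟨b, hb, right_mem_pw a b⟩)
      omega
    have hsT := s.2.1
    have hpl : pl V (s : H) a = pl V a b :=
      pl_eq_of_le hext hV ha hb hab.ne hsT ha hsa (hinv _ s.2.2).1 le_sup_left
    obtain ⟨w, hw, x', hx', hwx⟩ :=
      AddSubgroup.mem_sup.1 (hpl.symm ▸ add_mem (AddSubgroup.mem_sup_left hx)
        (AddSubgroup.mem_sup_right hy) : x + y ∈ pl V (s : H) a)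
    have hsle : movV (V := V) (s : H) ≤ U := (hinv _ s.2.2).1.trans hab_pl
    by_cases hp2 : x' + z = 0
    · refine ⟨⟨s, hsT, hsle⟩, ?_⟩
      rw [← hwx, add_assoc, hp2, add_zero]
      exact hw
    obtain ⟨t, ht, htK, hvt⟩ := hac.cov (x' + z)
      (add_mem (AddSubgroup.mem_sup_left hx') (AddSubgroup.mem_sup_right hz)) hp2
    have htle := ((plane_basic hext hV ha hc hac.ne).2.2.2 t htK).1
    by_cases hst : Commute (s : H) t
    · -- then `x' = 0`, so `x + y` lies in `[V,s]`
      have hsne : (s : H) ≠ t ∨ (s : H) = t := ne_or_eq _ _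
      rcases hsne with hsne | hsne
      · have h1 := fix_of_commute hext hV hsT ht hsne hst hvt
        have hzs : (s : H) • z = z := s.2.2 z (AddSubgroup.mem_inf.2
          ⟨mem_fixV.2 (fix_of_commute hext hV ha hc hac.ne hac.comm hz),
            mem_fixV.2 (fix_of_commute hext hV hb hc hne hbc hz)⟩)
        rw [smul_add, hzs, add_left_inj] at h1
        have hx'0 : x' = 0 := by
          by_contra h0
          have hcsa : Commute (s : H) a := ha.commute_of_fix hext h0 hx' h1
          have hsF : ∀ d ∈ movV (V := V) (s : H), a • d = d := fun d hd =>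
            fix_of_commute hext hV ha hsT hsa.symm hcsa.symm hd
          obtain ⟨d, hd, hd0⟩ := exists_ne_zero_mov (V := V) hsT
          obtain ⟨d1, hd1, d2, hd2, hd12⟩ := AddSubgroup.mem_sup.1 ((hinv _ s.2.2).1 hd)
          have h5 := hsF d hd
          rw [← hd12, smul_add, smul_movV (ha.mul_self hext) hd1,
            fix_of_commute hext hV ha hb hab.ne hab.comm hd2, add_left_inj] at h5
          rw [hV.two_cancel (neg_eq_iff_add_eq_zero.1 h5), zero_add] at hd12
          exact hsb (hsT.eq_of_mov hext hb hd0 hd (hd12 ▸ hd2))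
        rw [hx'0, add_zero] at hwx
        by_cases hxy : x + y = 0
        · refine ⟨⟨c, hc, le_sup_right⟩, ?_⟩
          rw [hxy, zero_add]
          exact hz
        · exact absurd (hwx ▸ hw) (hsv hxy)
      · refine ⟨⟨s, hsT, hsle⟩, ?_⟩
        rw [← hwx, add_assoc]
        exact add_mem hw (hsne ▸ hvt)
    · obtain ⟨b', hb', hpl'⟩ := exists_partner hext hV hsT ht hst
      have hmem : x + y + z ∈ pl V (s : H) t := by
        rw [← hwx, add_assoc]
        exact add_mem (AddSubgroup.mem_sup_left hw) (AddSubgroup.mem_sup_right hvt)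
      obtain ⟨t', ht', ht'le, hvt'⟩ := hb'.cov _ (hpl'.symm ▸ hmem) hv0
      refine ⟨⟨t', ht', ?_⟩, hvt'⟩
      exact ((plane_basic hext hV hsT hb'.tb hb'.ne).2.2.2 t' ht'le).1.trans
        (hpl' ▸ sup_le hsle (htle.trans hac_pl))
  -- the vertices and their neighbours
  have hdisι : ∀ i j : ι, ∀ v : V, v ≠ 0 → v ∈ movV (V := V) (i : H) →
      v ∈ movV (V := V) (j : H) → i = j :=
    fun i j v hv h1 h2 => Subtype.ext (i.2.1.eq_of_mov hext j.2.1 hv h1 h2)
  have hcardι : Nat.card ι = Q ^ 2 + Q + 1 := by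
    have h := card_mul_of_partition U (fun t : ι => movV (V := V) (t : H))
      (fun t => hQof t t.2.1) (fun t => t.2.2) hcover hdisι
    rw [hUcard] at h
    obtain ⟨k, hk⟩ : ∃ k, Q = k + 1 := ⟨Q - 1, by omega⟩
    refine Nat.eq_of_mul_eq_mul_right (m := Q - 1) (by omega) (h.trans ?_)
    rw [hk, Nat.add_sub_cancel, show (k + 1) ^ 3 = ((k + 1) ^ 2 + (k + 1) + 1) * k + 1 by ring,
      Nat.add_sub_cancel]
  have hUinv : ∀ t : ι, ∀ v ∈ U, (t : H) • v ∈ U := by
    intro t v hv
    have h := add_mem hv (t.2.2 ⟨v, rfl⟩)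
    rwa [dlt_apply, add_sub_cancel] at h
  have hFU : ∀ t : ι, Nat.card (fixV (V := V) (t : H) ⊓ U : AddSubgroup V) = Q ^ 2 := by
    intro t
    have ht2 := t.2.1.mul_self hext
    have h1 : Nat.card (fixV (V := V) (t : H) ⊓ U : AddSubgroup V) * Q ≤ Q ^ 3 := by
      rw [← hUcard, ← hQof t t.2.1]
      exact card_mul_le_sub inf_le_right t.2.2 fun v h1 h2 =>
        eq_zero_of_fix_mov hV ht2 (mem_fixV.1 (AddSubgroup.mem_inf.1 h1).1) h2
    have h2 : Q ^ 3 ≤ Nat.card (fixV (V := V) (t : H) ⊓ U : AddSubgroup V) * Q := by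
      rw [← hUcard, ← hQof t t.2.1, ← Nat.card_prod]
      refine Nat.card_le_card_of_surjective
        (fun x : (fixV (V := V) (t : H) ⊓ U : AddSubgroup V) × movV (V := V) (t : H) =>
          (⟨x.1.1 + x.2.1, add_mem (AddSubgroup.mem_inf.1 x.1.2).2 (t.2.2 x.2.2)⟩ : U)) ?_
      rintro ⟨v, hv⟩
      obtain ⟨f, w, hfU, hf, -, hw, hfw⟩ := exists_decomp hV ht2 hv (hUinv t v hv)
      exact ⟨⟨⟨f, AddSubgroup.mem_inf.2 ⟨mem_fixV.2 hf, hfU⟩⟩, ⟨w, hw⟩⟩, Subtype.ext hfw⟩
    have h3 := le_antisymm h1 h2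
    rw [pow_succ] at h3
    exact Nat.eq_of_mul_eq_mul_right (by omega) h3
  let Adj : ι → ι → Prop := fun i j => i ≠ j ∧ Commute (i : H) (j : H)
  have hadj : ∀ i j : ι, ∀ v : V, v ≠ 0 → v ∈ movV (V := V) (j : H) → (i : H) • v = v → Adj i j := by
    intro i j v hv hvj hiv
    refine ⟨?_, j.2.1.commute_of_fix hext hv hvj hiv⟩
    rintro rfl
    exact hv (eq_zero_of_fix_mov hV (i.2.1.mul_self hext) hiv hvj)
  have hadj' : ∀ i j : ι, Adj i j →
      movV (V := V) (j : H) ≤ fixV (V := V) (i : H) ⊓ U := by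
    intro i j h v hv
    exact AddSubgroup.mem_inf.2 ⟨mem_fixV.2 (fix_of_commute hext hV i.2.1 j.2.1
      (fun e => h.1 (Subtype.ext e)) h.2 hv), j.2.2 hv⟩
  have hdeg : ∀ i : ι, Nat.card {j : ι // Adj i j} = Q + 1 := by
    intro i
    have h := card_mul_of_partition (fixV (V := V) (i : H) ⊓ U)
      (fun j : {j : ι // Adj i j} => movV (V := V) ((j : ι) : H))
      (fun j => hQof _ (j : ι).2.1) (fun j => hadj' i j j.2)
      (fun v hv hv0 => by
        obtain ⟨j, hj⟩ := hcover v (AddSubgroup.mem_inf.1 hv).2 hv0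
        exact ⟨⟨j, hadj i j v hv0 hj (mem_fixV.1 (AddSubgroup.mem_inf.1 hv).1)⟩, hj⟩)
      (fun j k v hv h1 h2 => Subtype.ext (hdisι _ _ v hv h1 h2))
    rw [hFU i] at h
    have h3 : (Q + 1) * (Q - 1) = Q ^ 2 - 1 := by rw [← Nat.sq_sub_sq]
    exact Nat.eq_of_mul_eq_mul_right (by omega) (h.trans h3.symm)
  have hsymm : ∀ i j : ι, Adj i j → Adj j i := fun i j h => ⟨h.1.symm, h.2.symm⟩
  have hone : ∀ i j : ι, i ≠ j → Nat.card {k : ι // Adj i k ∧ Adj k j} = 1 := by
    intro i j hij
    rw [Nat.card_eq_one_iff_unique]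
    refine ⟨⟨fun k l => ?_⟩, ?_⟩
    · by_contra hkl
      have hkl' : ((k : ι) : H) ≠ ((l : ι) : H) := fun e => hkl (Subtype.ext (Subtype.ext e))
      have hsub : pl V ((k : ι) : H) ((l : ι) : H) ≤ fixV (V := V) (i : H) ⊓ U :=
        sup_le (hadj' i k k.2.1) (hadj' i l l.2.1)
      have hsub' : pl V ((k : ι) : H) ((l : ι) : H) ≤ fixV (V := V) (j : H) ⊓ U :=
        sup_le (hadj' j k (hsymm _ _ k.2.2)) (hadj' j l (hsymm _ _ l.2.2))
      have hcard := (plane_basic hext hV (k : ι).2.1 (l : ι).2.1 hkl').1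
      rw [hQof _ (k : ι).2.1] at hcard
      have e1 := AddSubgroup.eq_of_le_of_card_ge hsub (by rw [hFU i, hcard])
      have e2 := AddSubgroup.eq_of_le_of_card_ge hsub' (by rw [hFU j, hcard])
      -- both fix the same `Q²`-subgroup `G` of `U` and move into its complement
      set G := pl V ((k : ι) : H) ((l : ι) : H)
      obtain ⟨P, hP, hdis⟩ := exists_compl hext hV G
      have hiP := (hP (i : H) fun s hs => mem_fixV.1 (AddSubgroup.mem_inf.1 (e1 ▸ hs)).1).1
      have hjP := (hP (j : H) fun s hs => mem_fixV.1 (AddSubgroup.mem_inf.1 (e2 ▸ hs)).1).1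
      have hij' : (i : H) ≠ (j : H) := fun e => hij (Subtype.ext e)
      have hc2 := (plane_basic hext hV i.2.1 j.2.1 hij').1
      rw [hQof _ i.2.1] at hc2
      have hbad : Nat.card G * Nat.card (pl V (i : H) (j : H)) ≤ Nat.card U :=
        card_mul_le_sub (e1 ▸ inf_le_right) (sup_le i.2.2 j.2.2)
          fun v h1 h2 => hdis v h1 (sup_le hiP hjP h2)
      rw [hcard, hc2, hUcard] at hbad
      have : Q ^ 3 < Q ^ 2 * Q ^ 2 := by
        rw [← pow_add]; exact Nat.pow_lt_pow_right hQ1 (by norm_num)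
      omega
    · -- a common fixed vector of `i` and `j` in `U`
      have hA : 1 < Nat.card ((fixV (V := V) (i : H) ⊓ U) ⊓ (fixV (j : H) ⊓ U) : AddSubgroup V) := by
        by_contra hle
        push Not at hle
        have h0 : ∀ v ∈ fixV (V := V) (i : H) ⊓ U, v ∈ fixV (V := V) (j : H) ⊓ U → v = 0 := by
          intro v h1 h2
          have := (Finite.card_le_one_iff_subsingleton.1 hle).elim
            (⟨v, AddSubgroup.mem_inf.2 ⟨h1, h2⟩⟩ :
              ((fixV (V := V) (i : H) ⊓ U) ⊓ (fixV (j : H) ⊓ U) : AddSubgroup V)) 0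
          exact congrArg Subtype.val this
        have h := card_mul_le_sub (P := U) inf_le_right inf_le_right h0
        rw [hFU i, hFU j, hUcard, ← pow_add] at h
        have := Nat.pow_lt_pow_right hQ1 (show 3 < 2 + 2 by norm_num)
        omega
      have := Finite.one_lt_card_iff_nontrivial.1 hA
      obtain ⟨⟨v, hv⟩, hv0⟩ :=
        exists_ne (0 : ((fixV (V := V) (i : H) ⊓ U) ⊓ (fixV (j : H) ⊓ U) : AddSubgroup V))
      obtain ⟨h1, h2⟩ := AddSubgroup.mem_inf.1 hv
      have hv0' : v ≠ 0 := fun e => hv0 (Subtype.ext e)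
      obtain ⟨k, hk⟩ := hcover v (AddSubgroup.mem_inf.1 h1).2 hv0'
      exact ⟨⟨k, hadj i k v hv0' hk (mem_fixV.1 (AddSubgroup.mem_inf.1 h1).1),
        hsymm _ _ (hadj j k v hv0' hk (mem_fixV.1 (AddSubgroup.mem_inf.1 h2).1))⟩⟩
  -- the trace contradiction modulo `p`
  obtain ⟨hp, hp2, hpv⟩ := hV.choose_spec
  set p := hV.choose
  have : Fact p.Prime := ⟨hp⟩
  have hpQ : p ∣ Q := by
    have ho : addOrderOf (⟨c0, hc0⟩ : movV (V := V) a) = p :=
      addOrderOf_eq_prime (Subtype.ext (hpv c0)) (fun e => hc00 (congrArg Subtype.val e))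
    exact ho ▸ addOrderOf_dvd_natCard _
  have hQ0 : (Q : ZMod p) = 0 := by
    obtain ⟨k, hk⟩ := hpQ
    rw [hk, Nat.cast_mul, ZMod.natCast_self, zero_mul]
  let M : Matrix ι ι (ZMod p) := Matrix.of fun i j => if Adj i j then 1 else 0
  let J : Matrix ι ι (ZMod p) := Matrix.of fun _ _ => 1
  have hMM : M * M = J := by
    ext i j
    simp only [M, J, Matrix.mul_apply, Matrix.of_apply, ite_mul, zero_mul, one_mul, ← ite_and]
    rw [Finset.sum_boole, ← Fintype.card_subtype, ← Nat.card_eq_fintype_card]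
    by_cases hij : i = j
    · subst hij
      rw [Nat.card_congr (Equiv.subtypeEquivRight fun k => ⟨fun h => h.1, fun h => ⟨h, hsymm _ _ h⟩⟩),
        hdeg i, Nat.cast_add, hQ0, zero_add, Nat.cast_one]
    · rw [hone i j hij, Nat.cast_one]
  have hMJ : M * J = J := by
    ext i j
    simp only [M, J, Matrix.mul_apply, Matrix.of_apply, mul_one]
    rw [Finset.sum_boole, ← Fintype.card_subtype, ← Nat.card_eq_fintype_card, hdeg i,
      Nat.cast_add, hQ0, zero_add, Nat.cast_one]
  have hpow : ∀ n : ℕ, M ^ (n + 2) = J := by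
    intro n
    induction n with
    | zero => rw [pow_two, hMM]
    | succ n ih => rw [show n + 1 + 2 = (n + 2) + 1 by ring, pow_succ', ih, hMJ]
  have hMp : M ^ p = J := by
    obtain ⟨n, hn⟩ : ∃ n, p = n + 2 := ⟨p - 2, by have := hp.two_le; omega⟩
    have h := hpow n
    rwa [← hn] at h
  have htr := ZMod.trace_pow_card M
  rw [hMp] at htr
  have hJtr : J.trace = 1 := by
    simp only [J, Matrix.trace, Matrix.diag, Matrix.of_apply, Finset.sum_const, nsmul_eq_mul,
      mul_one, Finset.card_univ, ← Nat.card_eq_fintype_card, hcardι]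
    push_cast
    rw [hQ0]; ring
  have hMtr : M.trace = 0 := by
    simp [M, Adj, Matrix.trace, Matrix.diag]
  rw [hJtr, hMtr, zero_pow hp.ne_zero] at htr
  exact one_ne_zero htr

/-- In odd characteristic `V` is one plane, or a reflection is central. -/
theorem plane_top (hext : Ext H V) (hirr : Irr H V) (hV : OddV V) {q : H} (hq : IsTop V q)
    (hnc : ∃ g : H, g * q * g⁻¹ ≠ q) :
    ∃ b t : H, Link V q b ∧ IsTop V t ∧ ¬ Commute q t ∧ pl V q t = ⊤ := by
  obtain ⟨g, hg⟩ := hnc
  obtain ⟨b, t, hb, ht, hnt, hpl, -⟩ := conj_link hext hV hq hg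
  refine ⟨b, t, hb, ht, hnt, ?_⟩
  rw [← hpl]
  by_cases hall : ∀ g : H, movV (g * q * g⁻¹) ≤ pl V q b
  · set A := ⨆ g : H, movV (V := V) (g * q * g⁻¹) with hA
    have hAle : A ≤ pl V q b := iSup_le hall
    have hinv : ∀ h : H, ∀ v ∈ A, h • v ∈ A := by
      intro h v hv
      induction hv using AddSubgroup.iSup_induction' with
      | hp i x hx =>
        refine AddSubgroup.mem_iSup_of_mem (h * i) ?_
        have := movV_conj (g := h) hx
        rwa [show h * (i * q * i⁻¹) * h⁻¹ = h * i * q * (h * i)⁻¹ by group] at this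
      | h1 => rw [smul_zero]; exact zero_mem _
      | hadd x y _ _ h1 h2 => rw [smul_add]; exact add_mem h1 h2
    rcases hirr A hinv with h | h
    · obtain ⟨c, hc, hc0⟩ := exists_ne_zero_mov (V := V) hq
      have : c ∈ A := AddSubgroup.mem_iSup_of_mem 1 (by simpa using hc)
      rw [h] at this
      exact absurd ((AddSubgroup.mem_bot).1 this) hc0
    · exact top_le_iff.1 (h ▸ hAle)
  · push Not at hall
    obtain ⟨g2, hg2⟩ := hall
    have hg2q : g2 * q * g2⁻¹ ≠ q := fun e => hg2 (e.symm ▸ le_sup_left)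
    obtain ⟨b2, -, hb2, -, -, -, hle⟩ := conj_link hext hV hq hg2q
    have hbb : b ≠ b2 := fun e => hg2 (e ▸ hle)
    exfalso
    by_cases hc : Commute b b2
    · exact no_triangle hext hV hb hb2 hc hbb
    · obtain ⟨b3, hb3, hpl3⟩ := exists_partner hext hV hb.tb hb2.tb hc
      have hfix : ∀ d ∈ movV (V := V) b3, q • d = d := by
        intro d hd
        have hd' : d ∈ pl V b b2 := hpl3 ▸ AddSubgroup.mem_sup_right hd
        obtain ⟨d1, hd1, d2, hd2, rfl⟩ := AddSubgroup.mem_sup.1 hd'
        rw [smul_add, fix_of_commute hext hV hq hb.tb hb.ne hb.comm hd1,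
          fix_of_commute hext hV hq hb2.tb hb2.ne hb2.comm hd2]
      obtain ⟨d, hd, hd0⟩ := exists_ne_zero_mov (V := V) hb3.tb
      have hcq : Commute q b3 := hb3.tb.commute_of_fix hext hd0 hd (hfix d hd)
      have hqb3 : q ≠ b3 := fun e =>
        hd0 (eq_zero_of_fix_mov hV (hb3.tb.mul_self hext) (e ▸ hfix d hd) hd)
      exact no_triangle hext hV hb.symm hb3 hcq hqb3

end Cfsg.Agent.BinAff
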