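/-
Binary affine groups in odd characteristic: either `H` has order at most two and acts by signs,
or `H` is a circle extended by its inversion.
-/
import Cfsg.Agent.Lib.Fus.BinAff.Global

set_option autoImplicit false
set_option linter.unusedSectionVars false

namespace Cfsg.Agent.BinAff

/-- Sign of an involution by the size of its support. -/
theorem sign_of_involution {α : Type*} [Fintype α] [DecidableEq α] (σ : Equiv.Perm α)
    (h : σ * σ = 1) : Equiv.Perm.sign σ = (-1) ^ (σ.support.card / 2) := by
  by_cases h1 : σ = 1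
  · subst h1; simp
  have : Fact (Nat.Prime 2) := ⟨Nat.prime_two⟩
  have ho : orderOf σ = 2 := orderOf_eq_prime (by rwa [pow_two]) h1
  obtain ⟨n, hn⟩ := Equiv.Perm.cycleType_prime_order (by rw [ho]; exact Nat.prime_two)
  rw [ho] at hn
  rw [← Equiv.Perm.sum_cycleType, Equiv.Perm.sign_of_cycleType, hn, Multiset.sum_replicate,
    Multiset.card_replicate, smul_eq_mul, Nat.mul_div_cancel _ two_pos, pow_add, pow_mul']
  simp

variable {H V : Type*} [Group H] [AddCommGroup V] [DistribMulAction H V] [FaithfulSMul H V]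
  [Finite V] [Finite H]

/-- A central reflection. -/
theorem signs_of_central (hext : Ext H V) (hirr : Irr H V) (hV : OddV V) {q : H}
    (hq : IsTop V q) (hc : ∀ g : H, g * q * g⁻¹ = q) :
    Nat.card H ≤ 2 ∧ ∀ h : H, ∀ v : V, h • v = v ∨ h • v = -v := by
  have hq2 := hq.mul_self hext
  have hinv : ∀ g : H, ∀ v ∈ fixV (V := V) q, g • v ∈ fixV q := fun g v hv =>
    smul_mem_fixV_of_commute (mul_inv_eq_iff_eq_mul.1 (hc g)) hv
  have hF : fixV (V := V) q = ⊥ := (hirr _ hinv).resolve_right fun h =>
    hq.1 (eq_one_of_forall fun v : V => mem_fixV.1 (h ▸ trivial : v ∈ fixV q))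
  have hfpf : ∀ h : H, h ≠ 1 → ∀ v : V, h • v = v → v = 0 := by
    intro h h1 v hv
    have := fix_eq_of_le hq h1 (by rw [hF]; exact bot_le)
    rw [hF] at this
    exact (AddSubgroup.mem_bot).1 (this ▸ mem_fixV.2 hv)
  have hneg : ∀ h : H, h ≠ 1 → ∀ v : V, h • v = -v := by
    intro h h1 v
    rcases eq_or_ne v 0 with rfl | hv
    · simp
    obtain ⟨x, -, hx1, hx2⟩ := hext.swap (h0 := h) (∅ : Set V) (b := v) (by simp) rfl
    have hxh : h⁻¹ * x = 1 := by
      by_contra hne
      exact hv (hfpf _ hne v (by rw [mul_smul, hx1, inv_smul_smul]))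
    rw [← inv_mul_eq_one.1 hxh] at hx2
    by_contra hne
    refine hne (eq_neg_of_add_eq_zero_right (hfpf h h1 _ ?_))
    rw [smul_add, hx2, add_comm]
  have hall : ∀ h : H, h = 1 ∨ h = q := by
    intro h
    by_cases h1 : h = 1
    · exact Or.inl h1
    exact Or.inr (eq_of_smul_eq_smul fun v : V => by rw [hneg h h1 v, hneg q hq.1 v])
  refine ⟨?_, fun h v => ?_⟩
  · have hcov : Function.Surjective (fun b : Bool => bif b then q else 1) := fun h => by
      rcases hall h with rfl | rfl
      · exact ⟨false, rfl⟩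
      · exact ⟨true, rfl⟩
    simpa using Nat.card_le_card_of_surjective _ hcov
  · by_cases h1 : h = 1
    · exact Or.inl (by rw [h1, one_smul])
    · exact Or.inr (hneg h h1 v)

/-- A non-central reflection. -/
theorem circle_odd (hext : Ext H V) (hirr : Irr H V) (hV : OddV V) {q : H} (hq : IsTop V q)
    (hnc : ∃ g : H, g * q * g⁻¹ ≠ q) : Circle H V := by
  classical
  obtain ⟨-, t0, -, ht0, hnt, htop⟩ := plane_top hext hirr hV hq hnc
  have hne0 : q ≠ t0 := fun e => hnt (e ▸ Commute.refl q)
  obtain ⟨hcard, -, hdis0, -⟩ := plane_basic hext hV hq ht0 hne0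
  rw [htop, AddSubgroup.card_top] at hcard
  obtain ⟨z, -, hz'⟩ := exists_neg hext hV hq ht0 hnt
  have hz : ∀ v : V, z • v = -v := fun v => hz' v (htop ▸ trivial)
  set Q := Nat.card (movV (V := V) q) with hQdef
  have hQof : ∀ t : H, IsTop V t → Nat.card (movV (V := V) t) = Q := fun t ht => hq.card_mov_eq ht
  obtain ⟨c0, hc0, hc00⟩ := exists_ne_zero_mov (V := V) hq
  have : Nontrivial (movV (V := V) q) :=
    ⟨⟨⟨c0, hc0⟩, 0, fun e => hc00 (congrArg Subtype.val e)⟩⟩
  have hQ1 : 1 < Q := Finite.one_lt_card
  have hQodd : Odd Q := by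
    by_contra hev
    rw [Nat.not_odd_iff_even, even_iff_two_dvd] at hev
    have : Fact (Nat.Prime 2) := ⟨Nat.prime_two⟩
    obtain ⟨w, hw⟩ := exists_prime_addOrderOf_dvd_card' (G := movV (V := V) q) 2 hev
    have hww : (w : V) + w = 0 := by
      have := addOrderOf_nsmul_eq_zero w
      rw [hw] at this
      rw [← two_nsmul]
      exact congrArg Subtype.val this
    have : w = 0 := Subtype.ext (hV.two_cancel hww)
    simp [this] at hw
  have hnz : ∀ v : V, -v = v → v = 0 := fun v h => hV.two_cancel (neg_eq_iff_add_eq_zero.1 h)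
  have hzc : ∀ g : H, Commute z g := fun g => eq_of_smul_eq_smul fun v : V => by
    rw [mul_smul, mul_smul, hz, hz, smul_neg]
  have hz2 : z * z = 1 := eq_one_of_forall fun v : V => by rw [mul_smul, hz, hz, neg_neg]
  have hz1 : z ≠ 1 := fun e => hc00 (hnz c0 (by rw [← hz c0, e, one_smul]))
  have hFcard : ∀ t : H, IsTop V t → Nat.card (fixV (V := V) t) = Q := by
    intro t ht
    have h := card_fix_mul_mov (V := V) t
    rw [hQof t ht, hcard, pow_two] at h
    exact Nat.eq_of_mul_eq_mul_right (by omega) h
  have hFix_zt : ∀ t : H, IsTop V t → ∀ v : V, (z * t) • v = v ↔ v ∈ movV (V := V) t := by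
    intro t ht v
    rw [mul_smul, hz, neg_eq_iff_eq_neg]
    exact ⟨fun h => mem_movV_of_neg hV h, fun h => smul_movV (ht.mul_self hext) h⟩
  have hzt : ∀ t : H, IsTop V t → IsTop V (z * t) := by
    intro t ht
    have hne1 : z * t ≠ 1 := by
      intro e
      obtain ⟨f, hf⟩ : ∃ f : fixV (V := V) t, f ≠ 0 := by
        have : 1 < Nat.card (fixV (V := V) t) := by rw [hFcard t ht]; exact hQ1
        have := Finite.one_lt_card_iff_nontrivial.1 this
        exact exists_ne 0
      refine hf (Subtype.ext (hnz _ ?_))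
      nth_rewrite 2 [← one_smul H (f : V)]
      rw [← e, mul_smul, mem_fixV.1 f.2, hz]
    refine hq.of_card hne1 ?_
    have heq : fixV (V := V) (z * t) = movV t := by
      ext v
      rw [mem_fixV]
      exact hFix_zt t ht v
    have h := card_fix_mul_mov (V := V) (z * t)
    rw [heq, hQof t ht, hcard, pow_two] at h
    exact (Nat.eq_of_mul_eq_mul_left (by omega) h).le
  -- centralisers and stabilisers
  have hcen : ∀ t : H, IsTop V t → ∀ x : H, Commute x t → ∀ c : V, c ≠ 0 → c ∈ movV t →
      x • c = c → x = 1 ∨ x = z * t := by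
    intro t ht x hxt c hc0' hc hxc
    have hne : t ≠ z * t := fun e => hz1 (right_eq_mul.1 e)
    obtain ⟨hcardt, hsplit, hdis, -⟩ := plane_basic hext hV ht (hzt t ht) hne
    rw [hQof t ht] at hcardt
    have htopt : pl V t (z * t) = ⊤ :=
      AddSubgroup.eq_top_of_card_eq _ (hcardt.trans hcard.symm)
    have hx : x ∈ pwStab H (cm V t (z * t)) := fun s hs => by
      rw [hdis s hs (htopt ▸ trivial), smul_zero]
    rcases centralizer_cases hext hV ht (hzt t ht) hne hx hxt hc0' hc hxc with h | h
    · exact Or.inl h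
    · have h' : x * t = z := eq_of_smul_eq_smul fun v : V => by
        rw [h v (htopt ▸ trivial), hz]
      exact Or.inr (by rw [← h', mul_assoc, ht.mul_self hext, mul_one])
  let ι := {t : H // IsTop V t}
  have := Fintype.ofFinite ι
  have hcov : ∀ v : V, v ≠ 0 → ∃ t : ι, v ∈ movV (V := V) (t : H) := by
    intro v hv
    obtain ⟨t, ht, -, hvt⟩ := plane_cover hext hV hq ht0 hnt (v := v) (htop ▸ trivial) hv
    exact ⟨⟨t, ht⟩, hvt⟩
  have hN : Nat.card ι = Q + 1 := by
    have h := card_mul_of_partition (⊤ : AddSubgroup V) (fun t : ι => movV (V := V) (t : H))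
      (fun t => hQof t t.2) (fun _ => le_top) (fun v _ hv => hcov v hv)
      (fun i j v hv h1 h2 => Subtype.ext (i.2.eq_of_mov hext j.2 hv h1 h2))
    rw [AddSubgroup.card_top, hcard] at h
    have h3 : (Q + 1) * (Q - 1) = Q ^ 2 - 1 := by rw [← Nat.sq_sub_sq]
    exact Nat.eq_of_mul_eq_mul_right (by omega) (h.trans h3.symm)
  have hstab : ∀ v : V, v ≠ 0 → ∃ s : H, IsTop V s ∧ s • v = v ∧
      ∀ x : H, x • v = v → x = 1 ∨ x = s := by
    intro v hv
    obtain ⟨t, ht⟩ := hcov v hv
    exact ⟨z * t, hzt t t.2, (hFix_zt t t.2 v).2 ht,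
      fun x hx => hcen t t.2 x (t.2.commute_of_fix hext hv ht hx) v hv ht hx⟩
  have hqd : ∀ t : H, IsTop V t → t * t = 1 := fun t ht => ht.mul_self hext
  -- every pair of an orbit is swapped by one reflection
  have horb : ∀ v : V, v ≠ 0 → Nat.card (MulAction.orbit H v) = Q + 1 := by
    intro v hv
    have hmem : ∀ e ∈ MulAction.orbit H v, e ≠ 0 := by
      rintro _ ⟨g, rfl⟩ e
      exact hv (by simpa using congrArg (g⁻¹ • ·) e)
    let f : ι × MulAction.orbit H v → MulAction.orbit H v × MulAction.orbit H v := fun x =>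
      (x.2, ⟨(x.1 : H) • (x.2 : V), MulAction.mem_orbit_of_mem_orbit _ x.2.2⟩)
    have hf : Function.Bijective f := by
      constructor
      · rintro ⟨s, e⟩ ⟨s', e'⟩ h
        have he : e = e' := congrArg Prod.fst h
        subst he
        have hse : (s : H) • (e : V) = (s' : H) • (e : V) :=
          congrArg (fun x => ((x : MulAction.orbit H v × MulAction.orbit H v).2 : V)) h
        obtain ⟨w, hwT, hwe, hw⟩ := hstab _ (hmem _ e.2)
        refine Prod.ext (Subtype.ext ?_) rfl
        show (s : H) = s'
        rcases hw ((s : H) * s') (by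
          rw [mul_smul, ← hse, ← mul_smul, hqd s s.2, one_smul]) with h1 | h1
        · rw [← mul_one (s : H), ← hqd s' s'.2, ← mul_assoc, h1, one_mul]
        · exfalso
          have hs' : (s' : H) = s * w := by rw [← h1, ← mul_assoc, hqd s s.2, one_mul]
          have hcomm : Commute (s : H) w := by
            have h2 : (s' : H) * s' = 1 := hqd s' s'.2
            have h3 := inv_eq_of_mul_eq_one_right h2
            rw [hs', mul_inv_rev, inv_eq_of_mul_eq_one_right (hqd s s.2),
              inv_eq_of_mul_eq_one_right (hqd w hwT)] at h3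
            exact h3.symm
          obtain ⟨c, hc, hcn⟩ := exists_ne_zero_mov (V := V) (hzt w hwT)
          have hew : (e : V) ∈ movV (V := V) (z * w) := by
            refine mem_movV_of_neg hV ?_
            rw [mul_smul, hwe, hz]
          have hcomm' : Commute (s : H) (z * w) := (hzc s).symm.mul_right hcomm
          have hs1 := (commute_pm hext hV.elem (hzt w hwT) hcomm' hew)
          rcases hs1 with h4 | h4
          · rcases hw _ h4 with h5 | h5
            · exact s.2.1 h5
            · exact s'.2.1 (by rw [hs', h5, hqd w hwT])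
          · have h6 : (z * (s : H)) • (e : V) = e := by rw [mul_smul, h4, hz, neg_neg]
            rcases hw _ h6 with h5 | h5
            · exact hz1 (by
                have h7 : (s : H) = z := by
                  rw [← one_mul (s : H), ← hz2, mul_assoc, h5, mul_one]
                have h8 := hFcard s s.2
                rw [h7] at h8
                have h9 : fixV (V := V) z = ⊥ := (AddSubgroup.eq_bot_iff_forall _).2 fun u hu => by
                  have := mem_fixV.1 hu
                  rw [hz] at this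
                  exact hnz u this
                rw [h9, AddSubgroup.card_bot] at h8
                omega)
            · have h7 : (s' : H) = z := by
                rw [hs', ← h5, ← mul_assoc, (hzc s).symm.eq, mul_assoc, hqd s s.2, mul_one]
              have h8 := hFcard s' s'.2
              rw [h7] at h8
              have h9 : fixV (V := V) z = ⊥ := (AddSubgroup.eq_bot_iff_forall _).2 fun u hu => by
                have := mem_fixV.1 hu
                rw [hz] at this
                exact hnz u this
              rw [h9, AddSubgroup.card_bot] at h8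
              omega
      · rintro ⟨e, e'⟩
        obtain ⟨g, hg⟩ : ∃ g : H, g • (e : V) = e' := MulAction.mem_orbit_iff.1
          ((MulAction.orbit_eq_iff.2 e.2).symm ▸ e'.2)
        obtain ⟨x, -, hx1, hx2⟩ := hext.swap (h0 := g) (∅ : Set V) (by simp) hg
        by_cases h0 : (e : V) + e' = 0
        · obtain ⟨s, hs⟩ := hcov _ (hmem _ e.2)
          refine ⟨(s, e), Prod.ext rfl (Subtype.ext ?_)⟩
          show (s : H) • (e : V) = e'
          rw [smul_movV (hqd s s.2) hs]
          exact neg_eq_of_add_eq_zero_right h0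
        · obtain ⟨w, hwT, hwe, hw⟩ := hstab _ h0
          rcases hw x (by rw [smul_add, hx1, hx2, add_comm]) with h1 | h1
          · rw [h1, one_smul] at hx1
            obtain ⟨s, hsT, hs, -⟩ := hstab _ (hmem _ e.2)
            exact ⟨(⟨s, hsT⟩, e), Prod.ext rfl (Subtype.ext (hs.trans hx1))⟩
          · exact ⟨(⟨w, hwT⟩, e), Prod.ext rfl (Subtype.ext (h1 ▸ hx1))⟩
    have h := Nat.card_congr (Equiv.ofBijective f hf)
    rw [Nat.card_prod, Nat.card_prod, hN] at h
    have : Nonempty (MulAction.orbit H v) := ⟨⟨v, MulAction.mem_orbit_self v⟩⟩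
    exact (Nat.eq_of_mul_eq_mul_right Nat.card_pos h).symm
  have hH : Nat.card H = 2 * (Q + 1) := by
    obtain ⟨s, hsT, hs, hsx⟩ := hstab c0 hc00
    have h2 : Nat.card (MulAction.stabilizer H c0) = 2 := by
      have heq : ((MulAction.stabilizer H c0 : Subgroup H) : Set H) = {1, s} := by
        ext x
        simp only [SetLike.mem_coe, MulAction.mem_stabilizer_iff, Set.mem_insert_iff,
          Set.mem_singleton_iff]
        exact ⟨hsx x, fun h => by rcases h with rfl | rfl <;> simp [hs]⟩
      calc Nat.card (MulAction.stabilizer H c0)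
          = ((MulAction.stabilizer H c0 : Subgroup H) : Set H).ncard := Nat.card_coe_set_eq _
        _ = 2 := by rw [heq, Set.ncard_pair (Ne.symm hsT.1)]
    rw [← Subgroup.index_mul_card (MulAction.stabilizer H c0), MulAction.index_stabilizer,
      ← Nat.card_coe_set_eq, horb c0 hc00, h2, mul_comm]
  -- two classes of reflections
  have hzq : ∀ t : H, IsTop V t → t ≠ z := by
    intro t ht e
    have h8 := hFcard t ht
    have h9 : fixV (V := V) t = ⊥ := (AddSubgroup.eq_bot_iff_forall _).2 fun u hu => by
      have := mem_fixV.1 hu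
      rw [e, hz] at this
      exact hnz u this
    rw [h9, AddSubgroup.card_bot] at h8
    omega
  have hclass : ∀ t : H, IsTop V t →
      2 * ({s : H | ∃ g : H, g * t * g⁻¹ = s}).ncard = Q + 1 := by
    intro t ht
    have hne : t ≠ z * t := fun e => hz1 (right_eq_mul.1 e)
    have hset : ((MulAction.stabilizer (ConjAct H) t : Subgroup (ConjAct H)) : Set (ConjAct H)) =
        ConjAct.toConjAct '' ({1, t, z, z * t} : Set H) := by
      ext g
      simp only [SetLike.mem_coe, MulAction.mem_stabilizer_iff, ConjAct.smul_def, Set.mem_image]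
      constructor
      · intro h
        refine ⟨ConjAct.ofConjAct g, ?_, ConjAct.toConjAct_ofConjAct g⟩
        have hx : Commute (ConjAct.ofConjAct g) t := mul_inv_eq_iff_eq_mul.1 h
        obtain ⟨c, hc, hcn⟩ := exists_ne_zero_mov (V := V) ht
        simp only [Set.mem_insert_iff, Set.mem_singleton_iff]
        rcases commute_pm hext hV.elem ht hx hc with h1 | h1
        · rcases hcen t ht _ hx c hcn hc h1 with h2 | h2
          · exact Or.inl h2
          · exact Or.inr (Or.inr (Or.inr h2))
        · have h3 : (z * ConjAct.ofConjAct g) • c = c := by rw [mul_smul, h1, hz, neg_neg]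
          rcases hcen t ht _ ((hzc t).mul_left hx) c hcn hc h3 with h2 | h2
          · exact Or.inr (Or.inr (Or.inl (by
              rw [← one_mul (ConjAct.ofConjAct g), ← hz2, mul_assoc, h2, mul_one])))
          · exact Or.inr (Or.inl (mul_left_cancel h2))
      · rintro ⟨x, hx, rfl⟩
        rw [ConjAct.ofConjAct_toConjAct, mul_inv_eq_iff_eq_mul]
        simp only [Set.mem_insert_iff, Set.mem_singleton_iff] at hx
        rcases hx with rfl | rfl | rfl | rfl
        · simp
        · rfl
        · exact (hzc t).eq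
        · exact (hzc t).mul_left (Commute.refl t)
    have h4 : Nat.card (MulAction.stabilizer (ConjAct H) t) = 4 := by
      calc Nat.card (MulAction.stabilizer (ConjAct H) t)
          = ((MulAction.stabilizer (ConjAct H) t : Subgroup (ConjAct H)) :
              Set (ConjAct H)).ncard := Nat.card_coe_set_eq _
        _ = 4 := by
            rw [hset, Set.ncard_image_of_injective _ (ConjAct.toConjAct (G := H)).injective]
            rw [Set.ncard_insert_of_notMem (by simp [Ne.symm ht.1, Ne.symm hz1, Ne.symm (hzt t ht).1]),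
              Set.ncard_insert_of_notMem (by simp [hzq t ht, hne]),
              Set.ncard_pair (fun e => ht.1 (left_eq_mul.1 e))]
    have horbit : ({s : H | ∃ g : H, g * t * g⁻¹ = s}) = MulAction.orbit (ConjAct H) t := by
      ext a
      constructor
      · rintro ⟨g, rfl⟩; exact ⟨ConjAct.toConjAct g, ConjAct.toConjAct_smul g t⟩
      · rintro ⟨g, rfl⟩; exact ⟨ConjAct.ofConjAct g, (ConjAct.smul_def g t).symm⟩
    have hHc : Nat.card (ConjAct H) = Nat.card H :=
      Nat.card_congr (ConjAct.ofConjAct (G := H)).toEquiv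
    have h := Subgroup.index_mul_card (MulAction.stabilizer (ConjAct H) t)
    rw [h4, MulAction.index_stabilizer, hHc, hH, ← horbit] at h
    omega
  have hclsub : ∀ t : H, IsTop V t →
      {s : H | ∃ g : H, g * t * g⁻¹ = s} ⊆ {s : H | IsTop V s} := by
    rintro t ht _ ⟨g, rfl⟩; exact ht.conj g
  have hTn : ({s : H | IsTop V s}).ncard = Q + 1 := by
    rw [← Nat.card_coe_set_eq]; exact hN
  obtain ⟨b, hb, hbq⟩ : ∃ b, IsTop V b ∧ ¬ ∃ g : H, g * q * g⁻¹ = b := by
    by_contra hall
    push Not at hall
    have h1 := Set.ncard_le_ncard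
      (show {s : H | IsTop V s} ⊆ {s : H | ∃ g : H, g * q * g⁻¹ = s} from fun s hs => hall s hs)
    have h2 := hclass q hq
    omega
  have hcases : ∀ s : H, IsTop V s →
      ((∃ g : H, g * q * g⁻¹ = s) ∧ ¬ ∃ g : H, g * b * g⁻¹ = s) ∨
      ((¬ ∃ g : H, g * q * g⁻¹ = s) ∧ ∃ g : H, g * b * g⁻¹ = s) := by
    have hdisj : Disjoint {s : H | ∃ g : H, g * q * g⁻¹ = s} {s : H | ∃ g : H, g * b * g⁻¹ = s} := by
      rw [Set.disjoint_left]
      rintro s ⟨g, rfl⟩ ⟨g', hg'⟩
      exact hbq ⟨g'⁻¹ * g, by
        rw [mul_inv_rev, inv_inv,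
          show g'⁻¹ * g * q * (g⁻¹ * g') = g'⁻¹ * (g * q * g⁻¹) * g' by group, ← hg']
        group⟩
    have hun := Set.ncard_union_eq hdisj
    have heq : {s : H | ∃ g : H, g * q * g⁻¹ = s} ∪ {s : H | ∃ g : H, g * b * g⁻¹ = s} =
        {s : H | IsTop V s} := by
      refine Set.eq_of_subset_of_ncard_le (Set.union_subset (hclsub q hq) (hclsub b hb)) ?_
      have := hclass q hq
      have := hclass b hb
      omega
    intro s hs
    rcases (heq.symm ▸ hs : s ∈ {s : H | ∃ g : H, g * q * g⁻¹ = s} ∪
      {s : H | ∃ g : H, g * b * g⁻¹ = s}) with h | h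
    · exact Or.inl ⟨h, Set.disjoint_left.1 hdisj h⟩
    · exact Or.inr ⟨fun h' => Set.disjoint_left.1 hdisj h' h, h⟩
  -- signs on the two orbits
  obtain ⟨i, hi⟩ := hQodd
  have hsign : ∀ w : H, IsTop V w → ∀ (O : Set V) (_ : Fintype O) (v : V), v ≠ 0 →
      w • v = v → O = MulAction.orbit H v → ∀ s : H, IsTop V s → ∀ σ : Equiv.Perm O,
      (∀ e : O, (σ e : V) = s • (e : V)) →
      ((∃ g : H, g * w * g⁻¹ = s) → Equiv.Perm.sign σ = (-1) ^ i) ∧
      ((¬ ∃ g : H, g * w * g⁻¹ = s) → Equiv.Perm.sign σ = (-1) ^ (i + 1)) := by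
    intro w hw O _ v hv hwv hO s hs σ hσ
    subst hO
    have hσ2 : σ * σ = 1 := Equiv.ext fun e => Subtype.ext (by
      rw [Equiv.Perm.mul_apply, hσ, hσ, ← mul_smul, hqd s hs, one_smul, Equiv.Perm.one_apply])
    have hO : Fintype.card (MulAction.orbit H v) = Q + 1 := by
      rw [← Nat.card_eq_fintype_card]; exact horb v hv
    have hsupp : σ.support.card = Q + 1 -
        (Finset.univ.filter fun e : MulAction.orbit H v => s • (e : V) = e).card := by
      have h1 : σ.support =
          (Finset.univ.filter fun e : MulAction.orbit H v => s • (e : V) = e)ᶜ := by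
        ext e
        rw [Equiv.Perm.mem_support, Finset.mem_compl, Finset.mem_filter]
        simp [← hσ, Subtype.ext_iff]
      rw [h1, Finset.card_compl, hO]
    have hfixconj : ∀ e : MulAction.orbit H v, s • (e : V) = e → ∃ g : H, g * w * g⁻¹ = s := by
      rintro ⟨_, g, rfl⟩ he
      have he' : (g⁻¹ * s * g) • v = v := by
        rw [mul_smul, mul_smul]
        exact inv_smul_eq_iff.2 he
      obtain ⟨w', -, -, hx⟩ := hstab v hv
      rcases hx _ he' with h | h
      · refine absurd ?_ hs.1
        rw [show s = g * (g⁻¹ * s * g) * g⁻¹ by group, h]; group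
      · rcases hx _ hwv with h' | h'
        · exact absurd h' hw.1
        · exact ⟨g, by rw [h', ← h]; group⟩
    constructor
    · rintro ⟨g, rfl⟩
      have hz' : ∀ e : MulAction.orbit H v, -(e : V) ∈ MulAction.orbit H v := fun e => by
        rw [← hz]; exact MulAction.mem_orbit_of_mem_orbit z e.2
      have hgv : (g * w * g⁻¹) • g • v = g • v := by
        rw [mul_smul, inv_smul_smul, mul_smul, hwv]
      have hgv0 : g • v ≠ 0 := fun e => hv (by simpa using congrArg (g⁻¹ • ·) e)
      set e0 : MulAction.orbit H v := ⟨g • v, MulAction.mem_orbit v g⟩ with he0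
      have hfix : (Finset.univ.filter fun e : MulAction.orbit H v =>
          (g * w * g⁻¹) • (e : V) = e) = {e0, ⟨-(e0 : V), hz' e0⟩} := by
        ext e
        simp only [Finset.mem_filter, Finset.mem_univ, true_and, Finset.mem_insert,
          Finset.mem_singleton]
        constructor
        · intro he
          have hmov : ∀ d : V, (g * w * g⁻¹) • d = d → d ∈ movV (V := V) (z * (g * w * g⁻¹)) :=
            fun d hd => mem_movV_of_neg hV (by rw [mul_smul, hd, hz])
          obtain ⟨g', hg'⟩ : ∃ g' : H, g' • (g • v) = (e : V) := by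
            obtain ⟨a, ha⟩ := e.2
            exact ⟨a * g⁻¹, by rw [mul_smul, inv_smul_smul]; exact ha⟩
          rcases orbit_mov hext hV.elem (hzt _ hs) (hmov _ hgv) (hmov _ he) hg' with h | h
          · exact Or.inl (Subtype.ext h)
          · exact Or.inr (Subtype.ext h)
        · rintro (rfl | rfl)
          · exact hgv
          · show (g * w * g⁻¹) • -(g • v) = -(g • v)
            rw [smul_neg, hgv]
      have hne : e0 ≠ ⟨-(e0 : V), hz' e0⟩ := fun e => hgv0 (hnz _ (congrArg Subtype.val e).symm)
      rw [sign_of_involution σ hσ2, hsupp, hfix, Finset.card_pair hne]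
      congr 1
      omega
    · intro hnot
      have hfix : (Finset.univ.filter fun e : MulAction.orbit H v => s • (e : V) = e) = ∅ :=
        Finset.filter_eq_empty_iff.2 fun e _ he => hnot (hfixconj e he)
      rw [sign_of_involution σ hσ2, hsupp, hfix, Finset.card_empty]
      congr 1
      omega
  have hfixne : ∀ t : H, IsTop V t → ∃ v : V, v ≠ 0 ∧ t • v = v := by
    intro t ht
    have : 1 < Nat.card (fixV (V := V) t) := by rw [hFcard t ht]; exact hQ1
    have := Finite.one_lt_card_iff_nontrivial.1 this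
    obtain ⟨⟨f, hf⟩, hf0⟩ := exists_ne (0 : fixV (V := V) t)
    exact ⟨f, fun e => hf0 (Subtype.ext e), mem_fixV.1 hf⟩
  obtain ⟨v1, hv1, hqv1⟩ := hfixne q hq
  obtain ⟨v2, hv2, hbv2⟩ := hfixne b hb
  have := Fintype.ofFinite (MulAction.orbit H v1)
  have := Fintype.ofFinite (MulAction.orbit H v2)
  let χ : H →* ℤˣ :=
    (Equiv.Perm.sign.comp (MulAction.toPermHom H (MulAction.orbit H v1))) *
    (Equiv.Perm.sign.comp (MulAction.toPermHom H (MulAction.orbit H v2)))
  have hχ : ∀ s : H, IsTop V s → χ s = -1 := by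
    intro s hs
    have h1 := hsign q hq _ inferInstance v1 hv1 hqv1 rfl s hs
      (MulAction.toPermHom H (MulAction.orbit H v1) s) (fun _ => rfl)
    have h2 := hsign b hb _ inferInstance v2 hv2 hbv2 rfl s hs
      (MulAction.toPermHom H (MulAction.orbit H v2) s) (fun _ => rfl)
    simp only [χ, MonoidHom.mul_apply, MonoidHom.comp_apply]
    rcases hcases s hs with ⟨hA, hB⟩ | ⟨hA, hB⟩
    · rw [h1.1 hA, h2.2 hB, ← pow_add, show i + (i + 1) = 2 * i + 1 by omega, pow_succ, pow_mul]
      simp
    · rw [h1.2 hA, h2.1 hB, ← pow_add, show i + 1 + i = 2 * i + 1 by omega, pow_succ, pow_mul]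
      simp
  set U := χ.ker with hU
  have hmemU : ∀ g : H, g ∈ U ↔ χ g = 1 := fun g => MonoidHom.mem_ker
  have hnotU : ∀ s : H, IsTop V s → s ∉ U := fun s hs h => by
    rw [hmemU, hχ s hs] at h
    exact absurd h (by decide)
  have hUcard : 2 * Nat.card U = Nat.card H := by
    have h1 : χ.range = ⊤ := by
      refine top_le_iff.1 fun u _ => ?_
      rcases Int.units_eq_one_or u with rfl | rfl
      · exact one_mem _
      · exact ⟨q, hχ q hq⟩
    have h2 : Nat.card ℤˣ = 2 := by rw [Nat.card_eq_fintype_card]; rfl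
    rw [← Subgroup.index_mul_card U, hU, Subgroup.index_ker, h1, Subgroup.card_top, h2]
  have hout : ∀ g : H, g ∉ U → IsTop V g := by
    have h1 : {s : H | IsTop V s} = ((U : Set H))ᶜ := by
      refine Set.eq_of_subset_of_ncard_le (fun s hs => hnotU s hs) ?_
      rw [Set.ncard_compl, hTn, ← Nat.card_coe_set_eq]
      change Nat.card H - Nat.card U ≤ Q + 1
      omega
    intro g hg
    exact (Set.ext_iff.1 h1 g).2 hg
  have hsplit : ∀ g : H, g ∈ U ∨ q * g ∈ U := by
    intro g
    rcases Int.units_eq_one_or (χ g) with h | h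
    · exact Or.inl ((hmemU g).2 h)
    · exact Or.inr ((hmemU _).2 (by rw [map_mul, hχ q hq, h]; rfl))
  refine ⟨U, q, Q, hQ1, hcard, by omega, hqd q hq, hnotU q hq, ?_, hsplit, ?_, ?_⟩
  · intro u hu
    have hqu : q * u ∉ U := fun h => hnotU q hq (by simpa using mul_mem h (inv_mem hu))
    have h2 := hqd _ (hout _ hqu)
    exact eq_inv_of_mul_eq_one_left ((mul_assoc (q * u) q u).trans h2)
  · intro u hu hu1 v hv
    by_contra hv0
    obtain ⟨s, hsT, -, hx⟩ := hstab v hv0
    rcases hx u hv with h | h
    · exact hu1 h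
    · exact hnotU s hsT (h ▸ hu)
  · intro v
    rcases eq_or_ne v 0 with rfl | hv
    · exact ⟨1, one_mem _, smul_zero _⟩
    obtain ⟨s, hsT, hs, -⟩ := hstab v hv
    refine ⟨q * s, (hsplit s).resolve_left (hnotU s hsT), ?_⟩
    rwa [← mul_assoc, hqd q hq, one_mul]

end Cfsg.Agent.BinAff
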