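/-
Binary affine groups in characteristic two: `H` is a dihedral group of order `2(Q+1)`.
-/
import Cfsg.Agent.Lib.Fus.BinAff.Basic

set_option autoImplicit false
set_option linter.unusedSectionVars false

namespace Cfsg.Agent.BinAff

variable {H V : Type*} [Group H] [AddCommGroup V] [DistribMulAction H V] [FaithfulSMul H V]
  [Finite V]

theorem neg_eq_self_two (two : ∀ v : V, v + v = 0) (v : V) : -v = v :=
  neg_eq_of_add_eq_zero_left (two v)

theorem mov_le_fix_two (hext : Ext H V) (two : ∀ v : V, v + v = 0) {q : H} (hq : IsTop V q)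
    {c : V} (hc : c ∈ movV q) : q • c = c := by
  rw [smul_movV (hq.mul_self hext) hc, neg_eq_self_two two]

theorem orbit_mov_two (hext : Ext H V) (two : ∀ v : V, v + v = 0) {q g : H} (hq : IsTop V q)
    {c d : V} (hc : c ∈ movV q) (hd : d ∈ movV q) (hg : g • c = d) : c = d := by
  have h := hext.eq_zero_of_orbit (g := g) (mov_le_fix_two hext two hq hc) (sub_mem hd hc)
    (by rw [hg]; abel)
  exact (sub_eq_zero.1 h).symm

theorem commute_fix_mov_two (hext : Ext H V) (two : ∀ v : V, v + v = 0) {q x : H}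
    (hq : IsTop V q) (hx : Commute x q) {c : V} (hc : c ∈ movV q) : x • c = c :=
  (orbit_mov_two hext two hq hc (smul_mem_movV_of_commute hx hc) rfl).symm

/-- Commuting conjugate elements of maximal fixed space coincide. -/
theorem eq_of_commute_conj_two (hext : Ext H V) (two : ∀ v : V, v + v = 0) {q r g0 : H}
    (hq : IsTop V q) (hr : g0 * q * g0⁻¹ = r) (hc : Commute q r) : r = q := by
  by_contra hne
  have hr' : IsTop V r := hr ▸ hq.conj g0
  have hz1 : q * r ≠ 1 := by
    intro e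
    apply hne
    calc r = (q * q) * r := by rw [hq.mul_self hext, one_mul]
      _ = q := by rw [mul_assoc, e, mul_one]
  have hker : ∀ g : H, g * q * g⁻¹ = r → ∀ u : V, dlt r u = g • dlt q u → q • u = u := by
    intro g hg u hu
    by_contra hqu
    set b := dlt q u with hb
    have hb0 : b ≠ 0 := fun e => hqu (sub_eq_zero.1 e)
    have hbq : b ∈ movV q := ⟨u, rfl⟩
    have hru : dlt r u ∈ movV r := ⟨u, rfl⟩
    have hyb : (q * r) • b = b := by
      rw [mul_smul, commute_fix_mov_two hext two hq hc.symm hbq, mov_le_fix_two hext two hq hbq]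
    have hy : b + dlt r u ∈ movV (q * r) := by
      refine mem_movV.2 ⟨u, ?_⟩
      have h1 : r • u = u + dlt r u := by simp
      have h2 : q • u = u + b := by simp [hb]
      rw [mul_smul, h1, smul_add, h2, commute_fix_mov_two hext two hr' hc hru]
      abel
    have h0 := hext.eq_zero_of_orbit (g := g) hyb hy (by rw [← hu, ← add_assoc, two, zero_add])
    have h1 : dlt r u = b := by
      rw [← neg_eq_self_two two b]
      exact (neg_eq_of_add_eq_zero_right h0).symm
    exact hne (hr'.eq_of_mov hext hq hb0 (h1 ▸ hru) hbq)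
  -- the two fixed spaces coincide
  have hFeq : fixV (V := V) r = fixV q := by
    let ψ : V →+ V := dlt r - (DistribSMul.toAddMonoidHom V g0).comp (dlt q)
    have hψ : ∀ u, ψ u = dlt r u - g0 • dlt q u := fun u => rfl
    have hle : ψ.ker ≤ fixV q := fun u hu => mem_fixV.2 (hker g0 hr u (sub_eq_zero.1 hu))
    have hran : ψ.range ≤ movV r := by
      rintro _ ⟨u, rfl⟩
      rw [hψ]
      exact sub_mem ⟨u, rfl⟩ (hr ▸ movV_conj ⟨u, rfl⟩)
    have hcard : Nat.card (fixV (V := V) q) = Nat.card (fixV (V := V) r) :=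
      hr ▸ (card_fixV_conj g0 q).symm
    have h1 : Nat.card V = Nat.card ψ.ker * Nat.card ψ.range := by
      rw [← AddSubgroup.index_ker, AddSubgroup.card_mul_index]
    have h2 : Nat.card (fixV (V := V) q) ≤ Nat.card ψ.ker := by
      have h3 := card_fix_mul_mov (V := V) r
      rw [← hcard, h1] at h3
      have h4 : Nat.card ψ.range ≤ Nat.card (movV (V := V) r) :=
        Nat.le_of_dvd Nat.card_pos (AddSubgroup.card_dvd_of_le hran)
      have h5 : 0 < Nat.card (movV (V := V) r) := Nat.card_pos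
      by_contra hlt
      push Not at hlt
      nlinarith
    have hk := AddSubgroup.eq_of_le_of_card_ge hle h2
    refine (AddSubgroup.eq_of_le_of_card_ge ?_ hcard.ge).symm
    intro f hf
    have hfk : ψ f = 0 := (hk.symm ▸ hf : f ∈ ψ.ker)
    rw [hψ, dlt_apply q, mem_fixV.1 hf, sub_self, smul_zero, sub_zero] at hfk
    exact hfk
  -- so the product has maximal fixed space and a swapping element gives a contradiction
  obtain ⟨u, hu⟩ : ∃ u : V, q • u ≠ u := by
    by_contra h
    push Not at h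
    exact hq.1 (eq_one_of_forall h)
  set b := dlt q u with hb
  have hb0 : b ≠ 0 := fun e => hu (sub_eq_zero.1 e)
  have hbq : b ∈ movV q := ⟨u, rfl⟩
  obtain ⟨x, -, hxb, hxb'⟩ := hext.swap (h0 := g0) (∅ : Set V) (b := b) (by simp) rfl
  have hgb : g0 • b ∈ movV r := hr ▸ movV_conj hbq
  have hgb0 : g0 • b ≠ 0 := fun e => hb0 (by simpa using congrArg (g0⁻¹ • ·) e)
  have hxq : x * q * x⁻¹ = r :=
    (hq.conj x).eq_of_mov hext hr' hgb0 (hxb ▸ movV_conj hbq) hgb
  have hxr : x * r * x⁻¹ = q :=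
    (hr'.conj x).eq_of_mov hext hq hb0 (hxb' ▸ movV_conj hgb) hbq
  have hzF : fixV (V := V) (q * r) = fixV q :=
    fix_eq_of_le hq hz1 fun f hf => mem_fixV.2 (by
      rw [mul_smul, mem_fixV.1 (hFeq.symm ▸ hf : f ∈ fixV r), mem_fixV.1 hf])
  have hz : IsTop V (q * r) := ⟨hz1, fun h hh => hzF ▸ hq.2 h hh⟩
  have hxz : Commute x (q * r) := by
    have : x * (q * r) * x⁻¹ = q * r := by
      rw [show x * (q * r) * x⁻¹ = (x * q * x⁻¹) * (x * r * x⁻¹) by group, hxq, hxr, hc.eq]
    exact mul_inv_eq_iff_eq_mul.1 this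
  have hdiff : x⁻¹ • u - u ∈ fixV (q * r) := by
    show dlt (q * r) (x⁻¹ • u - u) = 0
    rw [map_sub, sub_eq_zero]
    have h1 : dlt (q * r) (x⁻¹ • u) = x⁻¹ • dlt (q * r) u := by
      simp only [dlt_apply, smul_sub, smul_smul, hxz.inv_left.eq]
    rw [h1]
    exact commute_fix_mov_two hext two hz hxz.inv_left ⟨u, rfl⟩
  rw [hzF] at hdiff
  refine hu (hker x hxq u ?_)
  have h2 : dlt q (x⁻¹ • u) = b := by
    have : dlt q (x⁻¹ • u - u) = 0 := hdiff
    rwa [map_sub, sub_eq_zero] at this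
  rw [← hb, ← h2, ← hxq]
  simp [dlt_apply, smul_sub, mul_smul]

/-- A `2`-subgroup containing `q` centralises it. -/
theorem le_centralizer_two (hext : Ext H V) (two : ∀ v : V, v + v = 0) [Finite H] {q : H}
    (hq : IsTop V q) {P : Subgroup H} (hP : IsPGroup 2 P) (hqP : q ∈ P) :
    ∀ g ∈ P, Commute g q := by
  have : Fact (Nat.Prime 2) := ⟨Nat.prime_two⟩
  haveI : Group.IsNilpotent P := hP.isNilpotent
  by_contra hall
  push Not at hall
  obtain ⟨g, hgP, hg⟩ := hall
  set C : Subgroup P := (Subgroup.centralizer {q}).subgroupOf P with hC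
  have hmem : ∀ a : P, a ∈ C ↔ Commute (a : H) q := by
    intro a
    rw [hC, Subgroup.mem_subgroupOf, Subgroup.mem_centralizer_singleton_iff]
    rfl
  have hlt : C < ⊤ := lt_top_iff_ne_top.2 fun e => hg ((hmem ⟨g, hgP⟩).1 (e ▸ trivial))
  obtain ⟨a, haN, haC⟩ := SetLike.exists_of_lt (Group.normalizerCondition_of_isNilpotent C hlt)
  refine haC ((hmem a).2 ?_)
  have h1 : a * ⟨q, hqP⟩ * a⁻¹ ∈ C :=
    (Subgroup.mem_normalizer_iff.1 haN ⟨q, hqP⟩).1 ((hmem _).2 (Commute.refl q))
  have h2 : Commute ((a : H) * q * (a : H)⁻¹) q := by simpa using (hmem _).1 h1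
  have h3 := eq_of_commute_conj_two hext two hq (g0 := (a : H)) rfl h2.symm
  exact mul_inv_eq_iff_eq_mul.1 h3

/-- Two vectors of the orbit of `c ∈ [V,q]` are swapped by a conjugate of `q`. -/
theorem exists_pair_two (hext : Ext H V) (two : ∀ v : V, v + v = 0) [Finite H] {q : H}
    (hq : IsTop V q) {c : V} (hc : c ∈ movV q) (g : H) :
    ∃ t : H, g • c - c ∈ movV (t * q * t⁻¹) ∧ (t * q * t⁻¹) • c = g • c := by
  set r := g * q * g⁻¹ with hr
  have hr' : IsTop V r := hq.conj g
  have hq2 := hq.mul_self hext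
  have hr2 := hr'.mul_self hext
  set k := q * r with hk
  set n := orderOf k with hn
  have hkn : k ^ (n : ℤ) = 1 := by rw [zpow_natCast]; exact pow_orderOf_eq_one k
  have hqk : ∀ m : ℤ, q * k ^ m = k ^ (-m) * q := by
    intro m
    have h : SemiconjBy q k k⁻¹ := by
      unfold SemiconjBy
      rw [hk, mul_inv_rev, inv_eq_of_mul_eq_one_right hq2, inv_eq_of_mul_eq_one_right hr2,
        ← mul_assoc, hq2, one_mul, mul_assoc, hq2, mul_one]
    simpa [SemiconjBy] using (h.zpow_right m).eq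
  have hconj : ∀ t : ℤ, k ^ t * q * (k ^ t)⁻¹ = q * k ^ (-2 * t) := by
    intro t
    rw [← zpow_neg, show k ^ t * q = q * k ^ (-t) by rw [hqk, neg_neg], mul_assoc, ← zpow_add]
    ring_nf
  have hrk : q * k = r := by rw [hk, ← mul_assoc, hq2, one_mul]
  have hrconj : ∀ t : ℤ, k ^ t * r * (k ^ t)⁻¹ = q * k ^ (1 - 2 * t) := by
    intro t
    rw [show k ^ t * r * (k ^ t)⁻¹ = (k ^ t * q * (k ^ t)⁻¹) * (k ^ t * k * (k ^ t)⁻¹) by
      rw [← hrk]; group, hconj, (Commute.zpow_self k t).eq, mul_inv_cancel_right, mul_assoc,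
      ← zpow_add_one]
    ring_nf
  have hcomm : ∀ m : ℤ, k ^ (2 * m) = 1 → Commute q (q * k ^ m) := by
    intro m hm
    have h1 : k ^ (-m) = k ^ m := by
      have : k ^ (-m) * k ^ (2 * m) = k ^ m := by rw [← zpow_add]; ring_nf
      rwa [hm, mul_one] at this
    show q * (q * k ^ m) = q * k ^ m * q
    rw [hqk m, h1]
    rw [← mul_assoc, hqk, h1]
  have hnpos : 0 < n := orderOf_pos k
  have hkill : ∀ m : ℕ, 0 < m → m < n → k ^ (m : ℤ) ≠ 1 := fun m h1 h2 => by
    rw [zpow_natCast]; exact pow_ne_one_of_lt_orderOf h1.ne' h2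
  obtain ⟨i, hi⟩ : Odd n := by
    rw [← Nat.not_even_iff_odd]
    rintro ⟨m, hm⟩
    have h2m : k ^ (2 * (m : ℤ)) = 1 := by
      rw [← hkn, hm]; push_cast; ring_nf
    rcases Nat.even_or_odd m with ⟨l, hl⟩ | ⟨l, hl⟩
    · have h := hconj (-(l : ℤ))
      rw [show -2 * (-(l : ℤ)) = (m : ℤ) by rw [hl]; push_cast; ring] at h
      have := eq_of_commute_conj_two hext two hq h (hcomm m h2m)
      exact hkill m (by omega) (by omega) (mul_eq_left.1 this)
    · have h := hrconj (-(l : ℤ))
      rw [show 1 - 2 * (-(l : ℤ)) = (m : ℤ) by rw [hl]; push_cast; ring, hr] at h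
      have h' : (k ^ (-(l : ℤ)) * g) * q * (k ^ (-(l : ℤ)) * g)⁻¹ = q * k ^ (m : ℤ) := by
        rw [← h]; group
      have := eq_of_commute_conj_two hext two hq h' (hcomm m h2m)
      exact hkill m (by omega) (by omega) (mul_eq_left.1 this)
  refine ⟨k ^ ((i : ℤ) * (i + 1)), ?_⟩
  have hs : k ^ ((i : ℤ) * (i + 1)) * q * (k ^ ((i : ℤ) * (i + 1)))⁻¹ = q * k ^ ((i : ℤ) + 1) := by
    rw [hconj]
    have : -2 * ((i : ℤ) * (i + 1)) = ((i : ℤ) + 1) + (n : ℤ) * -(i + 1) := by
      rw [hi]; push_cast; ring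
    rw [this, zpow_add, zpow_mul, hkn, one_zpow, mul_one]
  set s := k ^ ((i : ℤ) * (i + 1)) * q * (k ^ ((i : ℤ) * (i + 1)))⁻¹ with hsdef
  have hsq : s * q * s⁻¹ = r := by
    have hsi : s⁻¹ = s := inv_eq_of_mul_eq_one_right ((hq.conj _).mul_self hext)
    rw [hsi, hs]
    calc q * k ^ ((i : ℤ) + 1) * q * (q * k ^ ((i : ℤ) + 1))
        = q * (k ^ ((i : ℤ) + 1) * k ^ ((i : ℤ) + 1)) := by
          rw [mul_assoc (q * k ^ _), ← mul_assoc q q, hq2, one_mul, mul_assoc]
      _ = q * k := by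
          rw [← zpow_add]
          have : (i : ℤ) + 1 + (i + 1) = 1 + (n : ℤ) := by rw [hi]; push_cast; ring
          rw [this, zpow_add, hkn, mul_one, zpow_one]
      _ = r := hrk
  have hsc : s • c ∈ movV r := hsq ▸ movV_conj hc
  have hgc : g • c ∈ movV r := movV_conj hc
  have he : s • c = g • c :=
    orbit_mov_two hext two hr' (g := g * s⁻¹) hsc hgc (by simp [mul_smul])
  refine ⟨?_, he⟩
  rw [← he]
  exact ⟨c, rfl⟩

/-- Characteristic two. -/
theorem circle_two (hext : Ext H V) (hirr : Irr H V) (two : ∀ v : V, v + v = 0) [Finite H]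
    [Nontrivial H] : Circle H V := by
  classical
  have : Fact (Nat.Prime 2) := ⟨Nat.prime_two⟩
  obtain ⟨q, hq⟩ := exists_isTop (H := H) (V := V)
  have hq2 := hq.mul_self hext
  have hqi : q⁻¹ = q := inv_eq_of_mul_eq_one_right hq2
  obtain ⟨u0, hu0⟩ : ∃ u : V, q • u ≠ u := by
    by_contra h
    push Not at h
    exact hq.1 (eq_one_of_forall h)
  set c := dlt q u0 with hcdef
  have hc : c ∈ movV q := ⟨u0, rfl⟩
  have hc0 : c ≠ 0 := fun e => hu0 (sub_eq_zero.1 e)
  have hspan : ∀ x : H, (∀ g : H, x • g • c = g • c) → x = 1 := by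
    intro x hx
    refine (hirr (AddSubgroup.closure (Set.range fun g : H => g • c)) ?_).elim (fun h => ?_) (fun h => ?_)
    rotate_left
    · exact absurd ((AddSubgroup.mem_bot).1 (h ▸ AddSubgroup.subset_closure ⟨1, one_smul H c⟩ :
        c ∈ (⊥ : AddSubgroup V))) hc0
    · refine eq_one_of_forall (V := V) fun v => ?_
      have hv : v ∈ AddSubgroup.closure (Set.range fun g : H => g • c) := h ▸ trivial
      induction hv using AddSubgroup.closure_induction with
      | mem a ha => obtain ⟨g, rfl⟩ := ha; exact hx g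
      | zero => exact smul_zero x
      | add a b _ _ h1 h2 => rw [smul_add, h1, h2]
      | neg a _ h1 => rw [smul_neg, h1]
    · intro g v hv
      induction hv using AddSubgroup.closure_induction with
      | mem a ha =>
        obtain ⟨g', rfl⟩ := ha
        exact AddSubgroup.subset_closure ⟨g * g', mul_smul g g' c⟩
      | zero => rw [smul_zero]; exact zero_mem _
      | add a b _ _ h1 h2 => rw [smul_add]; exact add_mem h1 h2
      | neg a _ h1 => rw [smul_neg]; exact neg_mem h1
  -- the projection to `[V,q]` separates the orbit up to `q`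
  have hinj : ∀ g1 g2 : H, dlt q (g1 • c) = dlt q (g2 • c) →
      g2 • c = g1 • c ∨ g2 • c = q • g1 • c := by
    intro g1 g2 h
    obtain ⟨t, ht1, ht2⟩ := exists_pair_two hext two (hq.conj g1) (movV_conj (g := g1) hc)
      (g2 * g1⁻¹)
    rw [smul_smul (g2 * g1⁻¹), inv_mul_cancel_right] at ht1 ht2
    rcases eq_or_ne (g2 • c) (g1 • c) with he | he
    · exact Or.inl he
    refine Or.inr ?_
    have hfix : q • (g2 • c - g1 • c) = g2 • c - g1 • c := by
      rw [← mem_fixV]
      show dlt q _ = 0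
      rw [map_sub, h, sub_self]
    have hcomm := ((hq.conj g1).conj t).commute_of_fix hext (sub_ne_zero.2 he) ht1 hfix
    have heq := eq_of_commute_conj_two hext two hq (g0 := t * g1)
      (r := t * (g1 * q * g1⁻¹) * t⁻¹) (by group) hcomm
    rw [heq] at ht2
    exact ht2.symm
  set C : Subgroup H := Subgroup.centralizer {q} with hCdef
  have hCmem : ∀ x, x ∈ C ↔ Commute x q := fun x => Subgroup.mem_centralizer_singleton_iff
  have hCfix : ∀ x ∈ C, x • c = c := fun x hx => commute_fix_mov_two hext two hq ((hCmem x).1 hx) hc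
  have hCorb : ∀ x ∈ C, ∀ g : H, x • g • c = g • c ∨ x • g • c = q • g • c := by
    intro x hx g
    have hd : dlt q (g • c) = dlt q ((x * g) • c) := by
      have h1 : dlt q ((x * g) • c) = x • dlt q (g • c) := by
        simp only [dlt_apply, smul_sub, smul_smul, ← mul_assoc, ((hCmem x).1 hx).eq]
      rw [h1, commute_fix_mov_two hext two hq ((hCmem x).1 hx) ⟨_, rfl⟩]
    simpa [mul_smul] using hinj g (x * g) hd
  have hC2 : ∀ x ∈ C, x * x = 1 := by
    intro x hx
    refine hspan _ fun g => ?_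
    rw [mul_smul]
    rcases hCorb x hx g with h | h
    · rw [h, h]
    · rw [h, smul_smul x q, ((hCmem x).1 hx).eq, mul_smul, h, ← mul_smul q q, hq2, one_smul]
  have hCab : ∀ x ∈ C, ∀ y ∈ C, x * y = y * x := by
    intro x hx y hy
    have h1 := hC2 (x * y) (mul_mem hx hy)
    rw [← inv_eq_of_mul_eq_one_right h1, mul_inv_rev, inv_eq_of_mul_eq_one_right (hC2 x hx),
      inv_eq_of_mul_eq_one_right (hC2 y hy)]
  have hC2g : IsPGroup 2 C := fun x => ⟨1, Subtype.ext (by simpa [pow_two] using hC2 x x.2)⟩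
  obtain ⟨S, hS⟩ := hC2g.exists_le_sylow
  have hqC : q ∈ C := (hCmem q).2 (Commute.refl q)
  have hSC : (S : Subgroup H) = C :=
    le_antisymm (fun g hg => (hCmem g).2 (le_centralizer_two hext two hq S.2 (hS hqC) g hg)) hS
  have hN : Subgroup.normalizer (S : Set H) ≤ Subgroup.centralizer (S : Set H) := by
    intro g hg
    rw [Subgroup.mem_centralizer_iff]
    intro x hx
    have hgq : g * q * g⁻¹ ∈ (S : Subgroup H) :=
      (Subgroup.mem_normalizer_iff.1 hg q).1 (hSC ▸ hqC)
    rw [hSC] at hgq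
    have h1 := eq_of_commute_conj_two hext two hq rfl ((hCmem _).1 hgq).symm
    have hgC : g ∈ C := (hCmem g).2 (mul_inv_eq_iff_eq_mul.1 h1)
    exact hCab x (hSC ▸ hx) g hgC
  set U := (MonoidHom.transferSylow S hN).ker with hU
  have hUc := MonoidHom.ker_transferSylow_isComplement' S hN
  rw [← hU, hSC] at hUc
  have hUnd : ¬ 2 ∣ Nat.card U := MonoidHom.not_dvd_card_ker_transferSylow S hN
  have hUdis : ∀ u ∈ U, u ∈ C → u = 1 := fun u h1 h2 => Subgroup.disjoint_def.1 hUc.disjoint h1 h2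
  have hUsq : ∀ u ∈ U, u * u = 1 → u = 1 := by
    intro u hu h
    by_contra hne
    have h2 : orderOf (⟨u, hu⟩ : U) = 2 :=
      orderOf_eq_prime (by simpa [pow_two, Subtype.ext_iff] using h)
        (by simpa [Subtype.ext_iff] using hne)
    exact hUnd (h2 ▸ orderOf_dvd_natCard _)
  -- `q` inverts `U`
  let φ : U →* U :=
    { toFun := fun u => ⟨q * u * q, by
        have := (inferInstance : U.Normal).conj_mem u u.2 q
        rwa [hqi] at this⟩
      map_one' := Subtype.ext (by simp [hq2])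
      map_mul' := fun a b => Subtype.ext (by
        show q * ((a : H) * b) * q = (q * a * q) * (q * b * q)
        calc q * ((a : H) * b) * q = q * a * (q * q) * b * q := by rw [hq2]; group
          _ = (q * a * q) * (q * b * q) := by group) }
  have hfpf : MonoidHom.FixedPointFree φ := by
    intro u hu
    refine Subtype.ext (hUdis u u.2 ((hCmem _).2 ?_))
    have h : q * (u : H) * q = u := congrArg Subtype.val hu
    show (u : H) * q = q * u
    nth_rewrite 1 [← h]
    rw [mul_assoc, hq2, mul_one]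
  have hinvol : Function.Involutive φ := fun u => Subtype.ext (by
    show q * (q * (u : H) * q) * q = u
    calc q * (q * (u : H) * q) * q = (q * q) * u * (q * q) := by group
      _ = u := by rw [hq2, one_mul, mul_one])
  have hinv : ∀ u ∈ U, q * u * q = u⁻¹ := fun u hu =>
    congrArg Subtype.val (congrFun (hfpf.coe_eq_inv_of_involutive hinvol) ⟨u, hu⟩)
  have hUab : ∀ a ∈ U, ∀ b ∈ U, a * b = b * a := fun a ha b hb =>
    congrArg Subtype.val (hfpf.commute_all_of_involutive hinvol ⟨a, ha⟩ ⟨b, hb⟩).eq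
  have hdec : ∀ g : H, ∃ u ∈ U, ∃ x ∈ C, u * x = g := by
    intro g
    obtain ⟨⟨u, x⟩, h⟩ := hUc.2 g
    exact ⟨u, u.2, x, x.2, h⟩
  have hreg : ∀ u ∈ U, ∀ v ∈ U, u • c = v • c → u = v := by
    intro u hu v hv h
    have h1 : (v⁻¹ * u) • c = c := by rw [mul_smul, h, inv_smul_smul]
    have h2 := hUdis _ (mul_mem (inv_mem hv) hu) ((hCmem _).2 (hq.commute_of_fix hext hc0 hc h1))
    exact (inv_mul_eq_one.1 h2).symm
  have hact : ∀ x ∈ C, ∀ u ∈ U, x * u * x⁻¹ = u ∨ x * u * x⁻¹ = u⁻¹ := by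
    intro x hx u hu
    have hxu : (x * u * x⁻¹) • c = x • u • c := by
      rw [mul_smul, mul_smul, hCfix _ (inv_mem hx)]
    have hm : x * u * x⁻¹ ∈ U := (inferInstance : U.Normal).conj_mem u hu x
    rcases hCorb x hx u with h | h
    · exact Or.inl (hreg _ hm u hu (hxu.trans h))
    · refine Or.inr (hreg _ hm _ (inv_mem hu) ?_)
      rw [hxu, h, ← hinv u hu, mul_smul, mul_smul, hCfix q hqC]
  have hfpfV : ∀ u ∈ U, u ≠ 1 → ∀ v : V, u • v = v → v = 0 := by
    intro u hu hne v hv
    refine (hirr (fixV u) ?_).elim (fun h => ?_) (fun h => ?_)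
    rotate_left
    · exact (AddSubgroup.mem_bot).1 (h ▸ mem_fixV.2 hv : v ∈ (⊥ : AddSubgroup V))
    · exact absurd (eq_one_of_forall fun w : V => mem_fixV.1 (h ▸ trivial : w ∈ fixV u)) hne
    · intro g w hw
      obtain ⟨a, ha, x, hx, rfl⟩ := hdec g
      rw [mem_fixV] at hw ⊢
      rw [mul_smul, smul_smul u a, hUab u hu a ha, mul_smul]
      congr 1
      rcases hact x⁻¹ (inv_mem hx) u hu with h | h
      · have : u * x = x * u := by
          rw [inv_inv, mul_assoc, inv_mul_eq_iff_eq_mul] at h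
          exact h
        rw [smul_smul, this, mul_smul, hw]
      · have : u * x = x * u⁻¹ := by
          rw [inv_inv, mul_assoc, inv_mul_eq_iff_eq_mul] at h
          exact h
        rw [smul_smul, this, mul_smul, inv_smul_eq_iff.2 hw.symm]
  -- the centraliser is `⟨q⟩`
  have hCq : ∀ x ∈ C, x = 1 ∨ x = q := by
    intro x hx
    by_cases hall : ∀ u ∈ U, x * u * x⁻¹ = u
    · refine Or.inl (hspan x fun g => ?_)
      obtain ⟨u, hu, y, hy, rfl⟩ := hdec g
      rw [mul_smul, hCfix y hy, smul_smul, mul_inv_eq_iff_eq_mul.1 (hall u hu), mul_smul,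
        hCfix x hx]
    · push Not at hall
      obtain ⟨w, hw, hwne⟩ := hall
      have hw' := (hact x hx w hw).resolve_left hwne
      have hinvall : ∀ u ∈ U, x * u * x⁻¹ = u⁻¹ := by
        intro u hu
        rcases hact x hx u hu with h | h
        · have e : x * (u * w) * x⁻¹ = u * w⁻¹ := by
            rw [← hw']; nth_rewrite 2 [← h]; group
          rcases hact x hx (u * w) (mul_mem hu hw) with h1 | h1
          · have h2 : w⁻¹ = w := mul_left_cancel (e.symm.trans h1)
            exact absurd (hw'.trans h2) hwne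
          · rw [e, hUab u hu w hw, mul_inv_rev, hUab u hu w⁻¹ (inv_mem hw),
              hUab u⁻¹ (inv_mem hu) w⁻¹ (inv_mem hw)] at h1
            rw [h]
            exact mul_left_cancel h1
        · exact h
      have h1 : q * x = 1 := by
        refine hspan _ fun g => ?_
        obtain ⟨u, hu, y, hy, rfl⟩ := hdec g
        have hxu : x * u = u⁻¹ * x := mul_inv_eq_iff_eq_mul.1 (hinvall u hu)
        have hqu : q * u⁻¹ = u * q := by
          rw [← hinv u hu, ← mul_assoc, ← mul_assoc, hq2, one_mul]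
        rw [mul_smul u y, hCfix y hy, mul_smul q x, smul_smul x u, hxu, mul_smul, hCfix x hx,
          smul_smul, hqu, mul_smul, hCfix q hqC]
      exact Or.inr (by rw [← mul_one q, ← h1, ← mul_assoc, hq2, one_mul])
  have hsplit : ∀ g : H, g ∈ U ∨ q * g ∈ U := by
    intro g
    obtain ⟨u, hu, x, hx, rfl⟩ := hdec g
    rcases hCq x hx with rfl | rfl
    · exact Or.inl (by rwa [mul_one])
    · exact Or.inr (by rw [← mul_assoc, hinv u hu]; exact inv_mem hu)
  have hqU : q ∉ U := fun h => hq.1 (hUdis q h hqC)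
  obtain ⟨w0, hw0, hw01⟩ : ∃ u ∈ U, u ≠ 1 := by
    by_contra hne
    push Not at hne
    refine (hirr (fixV q) ?_).elim (fun h => ?_) (fun h => ?_)
    rotate_left
    · exact hc0 ((AddSubgroup.mem_bot).1
        (h ▸ mem_fixV.2 (mov_le_fix_two hext two hq hc) : c ∈ (⊥ : AddSubgroup V)))
    · exact hq.1 (eq_one_of_forall fun w : V => mem_fixV.1 (h ▸ trivial : w ∈ fixV q))
    · intro g v hv
      rcases hsplit g with h | h
      · rw [hne g h, one_smul]; exact hv
      · have hg : g = q := by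
          rw [← one_mul g, ← hq2, mul_assoc, hne _ h, mul_one]
        rw [hg, mem_fixV.1 hv]
        exact hv
  have hcover : ∀ v : V, ∃ u ∈ U, (q * u) • v = v := by
    intro v
    rcases eq_or_ne v 0 with rfl | hv
    · exact ⟨1, one_mem _, smul_zero _⟩
    by_contra hnone
    push Not at hnone
    obtain ⟨x, -, hx1, hx2⟩ := hext.swap (h0 := w0) (∅ : Set V) (b := v) (by simp) rfl
    have htriv : ∀ g : H, g • v = v → g = 1 := by
      intro g hg
      rcases hsplit g with h | h
      · by_contra hne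
        exact hv (hfpfV g h hne v hg)
      · exact absurd (by rwa [← mul_assoc, hq2, one_mul]) (hnone _ h)
    have hxw : x = w0 :=
      (inv_mul_eq_one.1 (htriv (w0⁻¹ * x) (by rw [mul_smul, hx1, inv_smul_smul]))).symm
    rw [hxw, smul_smul] at hx2
    exact hw01 (hUsq w0 hw0 (htriv _ hx2))
  -- counting
  set Q := Nat.card (fixV (V := V) q) with hQ
  have hroot : ∀ u ∈ U, ∃ w ∈ U, w⁻¹ * q * w = q * u := by
    intro u hu
    obtain ⟨m, hm⟩ : Odd (Nat.card U) := Nat.odd_iff.2 (by omega)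
    refine ⟨u ^ (m + 1), pow_mem hu _, ?_⟩
    have h1 : u ^ (m + 1) * u ^ (m + 1) = u := by
      have hp : u ^ Nat.card U = 1 :=
        congrArg Subtype.val (pow_card_eq_one' (x := (⟨u, hu⟩ : U)))
      rw [← pow_add, show m + 1 + (m + 1) = Nat.card U + 1 by omega, pow_succ, hp, one_mul]
    rw [show (u ^ (m + 1))⁻¹ = q * u ^ (m + 1) * q from (hinv _ (pow_mem hu _)).symm,
      mul_assoc _ q q, hq2, mul_one, mul_assoc, h1]
  have hcardfix : ∀ u ∈ U, Nat.card (fixV (V := V) (q * u)) = Q := by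
    intro u hu
    obtain ⟨w, -, hwq⟩ := hroot u hu
    have := card_fixV_conj (V := V) w⁻¹ q
    rwa [inv_inv, hwq] at this
  have hdisj : ∀ a ∈ U, ∀ b ∈ U, ∀ v : V, v ≠ 0 → (q * a) • v = v → (q * b) • v = v → a = b := by
    intro a ha b hb v hv h1 h2
    by_contra hne
    refine hv (hfpfV (a⁻¹ * b) (mul_mem (inv_mem ha) hb) (fun e => hne (inv_mul_eq_one.1 e)) v ?_)
    rw [show a⁻¹ * b = (q * a)⁻¹ * (q * b) by group, mul_smul, h2, inv_smul_eq_iff, h1]
  have hsplitV : Q * Nat.card (movV (V := V) q) = Nat.card V := card_fix_mul_mov q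
  have hWF : Nat.card (movV (V := V) q) ≤ Q :=
    Nat.le_of_dvd Nat.card_pos (AddSubgroup.card_dvd_of_le fun d hd =>
      mem_fixV.2 (mov_le_fix_two hext two hq hd))
  have hFF : Q * Q ≤ Nat.card V := by
    have h := card_mul_le (A := fixV (V := V) q) (B := fixV (V := V) (q * w0)) fun v h1 h2 => by
      by_contra hv
      exact hw01 (hdisj 1 (one_mem _) w0 hw0 v hv (by rwa [mul_one, ← mem_fixV])
        (mem_fixV.1 h2)).symm
    rwa [hcardfix w0 hw0] at h
  have hVQ : Nat.card V = Q ^ 2 := by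
    rw [pow_two]
    exact le_antisymm (hsplitV ▸ Nat.mul_le_mul_left Q hWF) hFF
  have hQ2 : 2 ≤ Q := by
    have : Nontrivial (fixV (V := V) q) :=
      ⟨⟨⟨c, mem_fixV.2 (mov_le_fix_two hext two hq hc)⟩, 0, fun e => hc0 (congrArg Subtype.val e)⟩⟩
    exact Finite.one_lt_card
  refine ⟨U, q, Q, hQ2, hVQ, ?_, hq2, hqU, hinv, hsplit, hfpfV, hcover⟩
  have hcount := card_mul_of_partition (ι := U) (⊤ : AddSubgroup V)
    (fun u => fixV (V := V) (q * (u : H))) (fun u => hcardfix u u.2) (fun _ => le_top)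
    (fun v _ _ => by
      obtain ⟨u, hu, h⟩ := hcover v
      exact ⟨⟨u, hu⟩, mem_fixV.2 h⟩)
    (fun a b v hv h1 h2 =>
      Subtype.ext (hdisj a a.2 b b.2 v hv (mem_fixV.1 h1) (mem_fixV.1 h2)))
  rw [AddSubgroup.card_top, hVQ] at hcount
  have h3 : (Q + 1) * (Q - 1) = Q ^ 2 - 1 := by
    rw [← Nat.sq_sub_sq]
  exact Nat.eq_of_mul_eq_mul_right (by omega) (hcount.trans h3.symm)

end Cfsg.Agent.BinAff
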