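/-
Binary affine primitive groups: translation to the linear setting.
-/
import Cfsg.Agent.Lib.Fus.BinAff.Field
import Cfsg.Agent.Lib.Fus.BinAff.OddCase
import Cfsg.Agent.Lib.Fus.BinAff.Two

set_option autoImplicit false
set_option linter.unusedSectionVars false

namespace Cfsg.Agent.BinAff

section Linear

variable {H V : Type*} [Group H] [AddCommGroup V] [DistribMulAction H V] [FaithfulSMul H V]
  [Finite V] [Finite H]

theorem prime_card [Nontrivial V] (hirr : Irr H V) (h : ∀ g : H, ∀ v : V, g • v = v ∨ g • v = -v) :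
    (Nat.card V).Prime := by
  obtain ⟨v, hv⟩ := exists_ne (0 : V)
  obtain ⟨p, hp, hpd⟩ := Nat.exists_prime_and_dvd (Finite.one_lt_card (α := V)).ne'
  have : Fact p.Prime := ⟨hp⟩
  obtain ⟨w, hw⟩ := exists_prime_addOrderOf_dvd_card' p hpd
  have hw0 : w ≠ 0 := by rintro rfl; rw [addOrderOf_zero] at hw; exact hp.one_lt.ne hw
  rcases hirr (AddSubgroup.zmultiples w) (fun g x hx => by
    rcases h g x with e | e
    · rwa [e]
    · rw [e]; exact neg_mem hx) with e | e
  · exact absurd ((AddSubgroup.zmultiples_eq_bot).1 e) hw0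
  · rw [← AddSubgroup.card_top (G := V), ← e, Nat.card_zmultiples, hw]
    exact hp

theorem classification [Nontrivial V] (hext : Ext H V) (hirr : Irr H V) :
    ((Nat.card V).Prime ∧ Nat.card H ≤ 2) ∨
    (∃ (F E : Type) (_ : Field F) (_ : Fintype F) (_ : Field E) (_ : Fintype E) (_ : Algebra F E)
      (e : V ≃+ E), Module.finrank F E = 2 ∧
      (∀ h : H, ∃ (a : E) (φ : E ≃ₐ[F] E), Algebra.norm F a = 1 ∧
        ∀ v, e (h • v) = a * φ (e v)) ∧
      (∀ (a : E) (φ : E ≃ₐ[F] E), Algebra.norm F a = 1 →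
        ∃ h : H, ∀ v, e (h • v) = a * φ (e v))) := by
  rcases subsingleton_or_nontrivial H with hH | hH
  · refine Or.inl ⟨prime_card hirr fun g v => Or.inl ?_, ?_⟩
    · rw [Subsingleton.elim g 1, one_smul]
    · rw [Nat.card_unique]; omega
  obtain ⟨p, hp, hpd⟩ := Nat.exists_prime_and_dvd (Finite.one_lt_card (α := V)).ne'
  have : Fact p.Prime := ⟨hp⟩
  obtain ⟨w, hw⟩ := exists_prime_addOrderOf_dvd_card' p hpd
  have hw0 : w ≠ 0 := by rintro rfl; rw [addOrderOf_zero] at hw; exact hp.one_lt.ne hw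
  have hpv : ∀ v : V, p • v = 0 := by
    rcases hirr (nsmulAddMonoidHom (α := V) p).ker (fun g x hx => by
      rw [AddMonoidHom.mem_ker, nsmulAddMonoidHom_apply] at hx ⊢
      rw [← smul_comm g p x, hx, smul_zero]) with e | e
    · exfalso
      refine hw0 ((AddSubgroup.mem_bot).1 (e ▸ ?_ : w ∈ (⊥ : AddSubgroup V)))
      rw [AddMonoidHom.mem_ker, nsmulAddMonoidHom_apply, ← hw]
      exact addOrderOf_nsmul_eq_zero w
    · intro v
      exact (e ▸ trivial : v ∈ (nsmulAddMonoidHom (α := V) p).ker)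
  by_cases hp2 : p = 2
  · subst hp2
    exact Or.inr (circle_field hirr (circle_two hext hirr fun v => by
      rw [← two_nsmul]; exact hpv v))
  · have hV : OddV V := ⟨p, hp, hp2, hpv⟩
    obtain ⟨q, hq⟩ := exists_isTop (H := H) (V := V)
    by_cases hc : ∀ g : H, g * q * g⁻¹ = q
    · obtain ⟨h2, hpm⟩ := signs_of_central hext hirr hV hq hc
      exact Or.inl ⟨prime_card hirr hpm, h2⟩
    · push Not at hc
      exact Or.inr (circle_field hirr (circle_odd hext hirr hV hq hc))

end Linear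

universe u v

variable {G : Type u} {Ω : Type v} [Group G] [MulAction G Ω] [FaithfulSMul G Ω]

/-- Conjugation action of a point stabiliser on a normal abelian subgroup, additively. -/
@[reducible] def conjDMA (N : Subgroup G) [N.Normal] [IsMulCommutative N] (H : Subgroup G) :
    DistribMulAction H (Additive N) where
  smul h x := Additive.ofMul (⟨(h : G) * (x.toMul : N) * (h : G)⁻¹,
    Subgroup.Normal.conj_mem inferInstance _ (x.toMul).2 _⟩ : N)
  one_smul x := Additive.toMul.injective (Subtype.ext (by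
    show ((1 : H) : G) * (x.toMul : N) * ((1 : H) : G)⁻¹ = (x.toMul : N)
    simp))
  mul_smul a b x := Additive.toMul.injective (Subtype.ext (by
    show ((a * b : H) : G) * (x.toMul : N) * ((a * b : H) : G)⁻¹ =
      (a : G) * ((b : G) * (x.toMul : N) * (b : G)⁻¹) * (a : G)⁻¹
    rw [Subgroup.coe_mul]; group))
  smul_zero a := Additive.toMul.injective (Subtype.ext (by
    show (a : G) * ((1 : N) : G) * (a : G)⁻¹ = ((1 : N) : G)
    simp))
  smul_add a x y := Additive.toMul.injective (Subtype.ext (by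
    show (a : G) * ((x.toMul * y.toMul : N) : G) * (a : G)⁻¹ =
      ((a : G) * (x.toMul : N) * (a : G)⁻¹) * ((a : G) * (y.toMul : N) * (a : G)⁻¹)
    rw [Subgroup.coe_mul]; group))

theorem binary_affine [Finite G] [Fintype Ω] (hprim : MulAction.IsPreprimitive G Ω)
    (haff : ∃ N : Subgroup G, N.Normal ∧ N ≠ ⊥ ∧ IsMulCommutative ↥N)
    (hbin : ∀ (n : ℕ) (I J : Fin n → Ω), 2 ≤ n →
      (∀ i j : Fin n, i ≠ j → ∃ g : G, g • I i = J i ∧ g • I j = J j) → ∃ g : G, ∀ i, g • I i = J i) :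
    ((Fintype.card Ω).Prime ∧ ∀ ω : Ω, Nat.card ↥(MulAction.stabilizer G ω) ≤ 2) ∨
    (∃ (F E : Type) (_ : Field F) (_ : Fintype F) (_ : Field E) (_ : Fintype E) (_ : Algebra F E) (e : Ω ≃ E),
        Module.finrank F E = 2 ∧
        ∀ σ : Equiv.Perm Ω, σ ∈ (MulAction.toPermHom G Ω).range ↔
          ∃ (a b : E) (φ : E ≃ₐ[F] E), Algebra.norm F a = 1 ∧ ∀ ω : Ω, e (σ ω) = a * φ (e ω) + b) := by
  classical
  obtain ⟨N, hN, hNne, hNc⟩ := haff
  haveI := hN
  haveI := hNc
  haveI := hprim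
  obtain ⟨⟨n0, hn0⟩, hn01⟩ := (Subgroup.bot_or_exists_ne_one N).resolve_left hNne |>
    fun ⟨x, hx, hx1⟩ => (⟨⟨x, hx⟩, fun e => hx1 (congrArg Subtype.val e)⟩ : ∃ y : N, y ≠ 1)
  obtain ⟨ω0, hω0⟩ : ∃ ω : Ω, n0 • ω ≠ ω := by
    by_contra h
    push Not at h
    exact hn01 (Subtype.ext (eq_of_smul_eq_smul fun ω : Ω => by rw [h ω, Subgroup.coe_one, one_smul]))
  have hne : MulAction.fixedPoints N Ω ≠ Set.univ := fun e =>
    hω0 ((e.symm ▸ Set.mem_univ ω0 : ω0 ∈ MulAction.fixedPoints N Ω) ⟨n0, hn0⟩)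
  haveI : MulAction.IsPretransitive N Ω := MulAction.IsQuasiPreprimitive.isPretransitive_of_normal hne
  have hfree : ∀ n : N, (n : G) • ω0 = ω0 → n = 1 := by
    intro n hn
    refine Subtype.ext (eq_of_smul_eq_smul fun ω : Ω => ?_)
    obtain ⟨m, rfl⟩ := MulAction.exists_smul_eq N ω0 ω
    show (n : G) • (m : G) • ω0 = (1 : G) • (m : G) • ω0
    rw [one_smul, smul_smul, ← Subgroup.coe_mul, mul_comm' n m, Subgroup.coe_mul, mul_smul, hn]
  let H := MulAction.stabilizer G ω0
  letI : CommGroup N := { (inferInstance : Group N) with mul_comm := mul_comm' }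
  letI := conjDMA N H
  let pt : Additive N → Ω := fun x => ((x.toMul : N) : G) • ω0
  have hpt : Function.Bijective pt := by
    refine ⟨fun x y h => ?_, fun ω => ?_⟩
    · have h1 : ((y.toMul⁻¹ * x.toMul : N) : G) • ω0 = ω0 := by
        rw [Subgroup.coe_mul, mul_smul, Subgroup.coe_inv, inv_smul_eq_iff]
        exact h
      exact Additive.toMul.injective (inv_mul_eq_one.1 (hfree _ h1)).symm
    · obtain ⟨m, hm⟩ := MulAction.exists_smul_eq N ω0 ω
      exact ⟨Additive.ofMul m, hm⟩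
  have hH : ∀ h : H, (h : G) • ω0 = ω0 := fun h => h.2
  have hpt_h : ∀ (h : H) (x : Additive N), pt (h • x) = (h : G) • pt x := by
    intro h x
    show ((h : G) * (x.toMul : N) * (h : G)⁻¹) • ω0 = (h : G) • ((x.toMul : N) : G) • ω0
    rw [mul_smul, mul_smul, inv_smul_eq_iff.2 (hH h).symm]
  have hpt_add : ∀ x y : Additive N, pt (x + y) = ((x.toMul : N) : G) • pt y := by
    intro x y
    show (((x.toMul * y.toMul : N)) : G) • ω0 = _
    rw [Subgroup.coe_mul, mul_smul]
  haveI : Nontrivial (Additive N) := ⟨⟨Additive.ofMul ⟨n0, hn0⟩, 0, hn01⟩⟩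
  haveI : FaithfulSMul H (Additive N) := ⟨fun {a b} hab => by
    refine Subtype.ext (eq_of_smul_eq_smul fun ω : Ω => ?_)
    obtain ⟨x, rfl⟩ := hpt.2 ω
    rw [← hpt_h, ← hpt_h, hab]⟩
  have hext : Ext H (Additive N) := by
    intro S σ h1 h2
    haveI : Fintype S := Fintype.ofFinite S
    obtain ⟨m, ⟨es⟩⟩ := Finite.exists_equiv_fin S
    rcases Nat.eq_zero_or_pos m with rfl | hm
    · exact ⟨1, fun a ha => (es ⟨a, ha⟩).elim0⟩
    let I : Fin (m + 1) → Ω := Fin.cons ω0 fun i => pt (es.symm i)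
    let J : Fin (m + 1) → Ω := Fin.cons ω0 fun i => pt (σ (es.symm i))
    refine (hbin (m + 1) I J (by omega) ?_).elim fun g hg => ?_
    · intro i j _
      cases i using Fin.cases with
      | zero =>
        cases j using Fin.cases with
        | zero => exact ⟨1, by simp [I, J], by simp [I, J]⟩
        | succ j =>
          obtain ⟨h, hh⟩ := h1 _ (es.symm j).2
          exact ⟨h, by simpa [I, J] using hH h, by simp [I, J, ← hpt_h, hh]⟩
      | succ i =>
        cases j using Fin.cases with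
        | zero =>
          obtain ⟨h, hh⟩ := h1 _ (es.symm i).2
          exact ⟨h, by simp [I, J, ← hpt_h, hh], by simpa [I, J] using hH h⟩
        | succ j =>
          set a : Additive N := (es.symm i : Additive N)
          set b : Additive N := (es.symm j : Additive N)
          obtain ⟨h, hh⟩ := h2 a (es.symm i).2 b (es.symm j).2
          refine ⟨(((σ b).toMul : N) : G) * h * (((-b).toMul : N) : G), ?_, ?_⟩
          · simp only [I, J, Fin.cons_succ]
            rw [mul_smul, mul_smul, ← hpt_add, ← hpt_h, ← hpt_add, neg_add_eq_sub, hh,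
              add_sub_cancel]
          · simp only [I, J, Fin.cons_succ]
            rw [mul_smul, mul_smul, ← hpt_add, ← hpt_h, ← hpt_add, neg_add_cancel, smul_zero,
              add_zero]
    have hg0 : g ∈ H := MulAction.mem_stabilizer_iff.2 (by simpa [I, J] using hg 0)
    refine ⟨⟨g, hg0⟩, fun a ha => hpt.1 ?_⟩
    rw [hpt_h]
    have := hg (es ⟨a, ha⟩).succ
    simpa [I, J] using this
  have hirr : Irr H (Additive N) := by
    intro A hA
    let S : Subgroup G :=
      { carrier := {g | ∃ x ∈ A, ((x.toMul : N) : G) = g}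
        one_mem' := ⟨0, A.zero_mem, rfl⟩
        mul_mem' := by
          rintro _ _ ⟨x, hx, rfl⟩ ⟨y, hy, rfl⟩
          exact ⟨x + y, A.add_mem hx hy, rfl⟩
        inv_mem' := by
          rintro _ ⟨x, hx, rfl⟩
          exact ⟨-x, A.neg_mem hx, rfl⟩ }
    haveI : S.Normal := by
      refine ⟨?_⟩
      rintro _ ⟨x, hx, rfl⟩ g
      obtain ⟨y, hy⟩ := hpt.2 (g • ω0)
      have hh : ((y.toMul : N) : G)⁻¹ * g ∈ H := by
        show (((y.toMul : N) : G)⁻¹ * g) • ω0 = ω0
        rw [mul_smul, inv_smul_eq_iff, ← hy]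
      refine ⟨(⟨_, hh⟩ : H) • x, hA _ x hx, ?_⟩
      set h : G := ((y.toMul : N) : G)⁻¹ * g with hdef
      set c : N := ((⟨h, hh⟩ : H) • x).toMul with hc
      have hcomm : ((y.toMul : N) : G) * (c : G) * ((y.toMul : N) : G)⁻¹ = (c : G) := by
        rw [← Subgroup.coe_mul, mul_comm' y.toMul c, Subgroup.coe_mul, mul_inv_cancel_right]
      have hcval : (c : G) = h * (x.toMul : N) * h⁻¹ := rfl
      rw [← hcomm, hcval, hdef]
      group
    by_cases hbot : A = ⊥
    · exact Or.inl hbot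
    refine Or.inr ((AddSubgroup.eq_top_iff' A).2 fun z => ?_)
    obtain ⟨x, hx, hx0⟩ := (AddSubgroup.bot_or_exists_ne_zero A).resolve_left hbot
    have hSne : MulAction.fixedPoints S Ω ≠ Set.univ := fun e => by
      have h1 : ((x.toMul : N) : G) • ω0 = ω0 :=
        (e.symm ▸ Set.mem_univ ω0 : ω0 ∈ MulAction.fixedPoints S Ω) ⟨_, x, hx, rfl⟩
      exact hx0 (Additive.toMul.injective (hfree _ h1))
    haveI : MulAction.IsPretransitive S Ω :=
      MulAction.IsQuasiPreprimitive.isPretransitive_of_normal hSne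
    obtain ⟨⟨_, w, hw, rfl⟩, hs⟩ := MulAction.exists_smul_eq S ω0 (pt z)
    exact hpt.1 (show pt w = pt z from hs) ▸ hw
  have hcardN : Nat.card (Additive N) = Fintype.card Ω := by
    rw [Nat.card_congr (Equiv.ofBijective pt hpt), Nat.card_eq_fintype_card]
  rcases classification hext hirr with ⟨hp, h2⟩ | ⟨F, E, iF, fF, iE, fE, iA, e, hfin, he1, he2⟩
  · refine Or.inl ⟨hcardN ▸ hp, fun ω => ?_⟩
    obtain ⟨x, rfl⟩ := hpt.2 ω
    exact (Nat.card_congr (MulAction.stabilizerEquivStabilizer (g := ((x.toMul : N) : G))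
      (a := ω0) (b := pt x) rfl).toEquiv).symm ▸ h2
  · let eΩ : Ω ≃ E := (Equiv.ofBijective pt hpt).symm.trans e.toEquiv
    have heΩ : ∀ x : Additive N, eΩ (pt x) = e x := fun x => by
      show e ((Equiv.ofBijective pt hpt).symm (pt x)) = e x
      rw [Equiv.ofBijective_symm_apply_apply]
    refine Or.inr ⟨F, E, iF, fF, iE, fE, iA, eΩ, hfin, fun σ => ?_⟩
    constructor
    · rintro ⟨g, rfl⟩
      obtain ⟨y, hy⟩ := hpt.2 (g • ω0)
      have hh : ((y.toMul : N) : G)⁻¹ * g ∈ H := by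
        show (((y.toMul : N) : G)⁻¹ * g) • ω0 = ω0
        rw [mul_smul, inv_smul_eq_iff, ← hy]
      obtain ⟨a, φ, ha, hφ⟩ := he1 ⟨_, hh⟩
      refine ⟨a, e y, φ, ha, fun ω => ?_⟩
      obtain ⟨x, rfl⟩ := hpt.2 ω
      have hgx : g • pt x = pt (y + (⟨_, hh⟩ : H) • x) := by
        rw [hpt_add, hpt_h]
        exact ((congrArg (fun k : G => k • pt x) (mul_inv_cancel_left _ g).symm).trans
          (mul_smul _ _ _))
      show eΩ (g • pt x) = a * φ (eΩ (pt x)) + e y
      rw [hgx, heΩ, heΩ, map_add, hφ, add_comm]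
    · rintro ⟨a, b, φ, ha, hσ⟩
      obtain ⟨h, hh⟩ := he2 a φ ha
      refine ⟨(((e.symm b).toMul : N) : G) * h, Equiv.ext fun ω => eΩ.injective ?_⟩
      obtain ⟨x, rfl⟩ := hpt.2 ω
      show eΩ (((((e.symm b).toMul : N) : G) * h) • pt x) = eΩ (σ (pt x))
      rw [hσ, mul_smul, ← hpt_h, ← hpt_add, heΩ, heΩ, map_add, hh, AddEquiv.apply_symm_apply,
        add_comm]

end Cfsg.Agent.BinAff
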